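import Cfsg.Agent.DegreeGraph.Basic
import Cfsg.Agent.DegreeBound.Basic
import Cfsg.Agent.TwoDegrees73.Basic

/-!
# Degree bounds, extensions of characters of maximal degree, and twisting by linear characters
-/

set_option autoImplicit false
set_option linter.unusedSectionVars false
set_option linter.style.haveILetI false

namespace CfsgLib.IsaacsPassman

open CfsgLib.Characters CfsgLib.OddOrderChar
open scoped ComplexConjugate

universe u

/-- All irreducible degrees are at most `b`. -/
def DegLe (b : ℕ) (G : Type u) [Group G] : Prop :=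
  ∀ (χ : G → ℂ) (d : ℕ), Cfsg.IsIrrCharacter G χ → χ 1 = d → d ≤ b

variable {G : Type u} [Group G] [Fintype G] {b : ℕ}

theorem DegLe.subgroup (h : DegLe b G) (H : Subgroup G) : DegLe b H := by
  haveI := Fintype.ofFinite H
  intro θ d hθ hd
  obtain ⟨χ, hχ⟩ := DegreeBound.exists_degree_ge H ⟨θ, hθ⟩
  obtain ⟨e, -, he⟩ := exists_degree_pos χ.2
  change Cfsg.charDegree θ ≤ _ at hχ
  rw [DegreeGraph.charDegree_eq hd, DegreeGraph.charDegree_eq he] at hχ
  exact hχ.trans (h _ e χ.2 he)

theorem DegLe.pred_subgroup (h : DegLe b G) (H : Subgroup G)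
    (hno : ¬ ∃ θ : H → ℂ, Cfsg.IsIrrCharacter H θ ∧ θ 1 = b) : DegLe (b - 1) H := by
  intro θ d hθ hd
  have h1 := h.subgroup H θ d hθ hd
  have h2 : d ≠ b := fun e => hno ⟨θ, hθ, e ▸ hd⟩
  omega

/-- A character of maximal degree of a subgroup is the restriction of every character over it. -/
theorem ext_max (h : DegLe b G) (H : Subgroup G) [Fintype H] {θ : H → ℂ}
    (hθ : Cfsg.IsIrrCharacter H θ) (hb : θ 1 = b) {χ : G → ℂ} (hχ : Cfsg.IsIrrCharacter G χ)
    (hne : Cfsg.classInner (fun x : H => χ x) θ ≠ 0) :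
    (fun x : H => χ x) = θ ∧ χ 1 = b := by
  obtain ⟨d, -, hd⟩ := exists_degree_pos hχ
  have he := CharactersDeep.Clifford.eq_of_constituent_of_degree_le
    (isCharacter_restrict H (isCharacter_of_isIrr hχ)) hθ hne (a := d) (b := b)
    (by simpa using hd) hb (h χ d hχ hd)
  refine ⟨he, ?_⟩
  have := congrFun he 1
  simpa [hb] using this

theorem exists_ext_max (h : DegLe b G) (H : Subgroup G) [Fintype H] {θ : H → ℂ}
    (hθ : Cfsg.IsIrrCharacter H θ) (hb : θ 1 = b) :
    ∃ χ : G → ℂ, Cfsg.IsIrrCharacter G χ ∧ (fun x : H => χ x) = θ ∧ χ 1 = b := by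
  have hne : Cfsg.indFun H θ ≠ 0 := fun h0 => by
    have h1 := congrFun h0 1
    rw [OddOrderChar.indFun_one, Pi.zero_apply, mul_eq_zero] at h1
    exact h1.elim (Nat.cast_ne_zero.2 Subgroup.index_ne_zero_of_finite) (irr_one_ne_zero hθ)
  obtain ⟨χ, hχ, hc⟩ := exists_constituent
    (OddOrderChar.isCharacter_indFun H (isCharacter_of_isIrr hθ)) hne
  rw [classInner_indFun_left H θ (isClassFunction_of_isIrr hχ), classInner_conj_symm] at hc
  exact ⟨χ, hχ, ext_max h H hθ hb hχ fun h0 => hc (by rw [h0, map_zero])⟩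

/-- Restricting to a subgroup inside a subgroup. -/
theorem classInner_subgroupOf {N K : Subgroup G} (hNK : N ≤ K) [Fintype N]
    [Fintype (N.subgroupOf K)] (F F' : G → ℂ) :
    Cfsg.classInner (fun n : N.subgroupOf K => F (n : K)) (fun n : N.subgroupOf K => F' (n : K)) =
      Cfsg.classInner (fun n : N => F n) (fun n : N => F' n) :=
  OddOrderChar.classInner_comp_equiv (Subgroup.subgroupOfEquivOfLe hNK)
    (fun n : N => F n) (fun n : N => F' n)

theorem subgroupOf_card_index {N K : Subgroup G} (hNK : N ≤ K) :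
    (N.subgroupOf K).index * K.index = N.index :=
  Subgroup.relIndex_mul_index hNK

section Dual

variable (N : Subgroup G) [N.Normal] [Fintype N]

/-- The linear characters trivial on `N`. -/
def dual : Subgroup (G →* ℂˣ) where
  carrier := {lam | ∀ n ∈ N, lam n = 1}
  one_mem' _ _ := rfl
  mul_mem' {a c} ha hc n hn := by
    change a n * c n = 1
    rw [ha n hn, hc n hn, mul_one]
  inv_mem' {a} ha n hn := by
    change (a n)⁻¹ = 1
    rw [ha n hn, inv_one]

theorem mem_dual {lam : G →* ℂˣ} : lam ∈ dual N ↔ ∀ n ∈ N, lam n = 1 := Iff.rfl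

/-- The dual is the dual of the quotient. -/
def dualEquiv : dual N ≃ (G ⧸ N →* ℂˣ) where
  toFun lam := QuotientGroup.lift N lam.1 fun n hn => MonoidHom.mem_ker.2 (lam.2 n hn)
  invFun mu := ⟨mu.comp (QuotientGroup.mk' N), fun n hn => by
    rw [MonoidHom.comp_apply, QuotientGroup.mk'_apply, (QuotientGroup.eq_one_iff n).2 hn, map_one]⟩
  left_inv lam := Subtype.ext (MonoidHom.ext fun _ => rfl)
  right_inv mu := MonoidHom.ext fun x => QuotientGroup.induction_on x fun _ => rfl

theorem finite_dual [IsMulCommutative (G ⧸ N)] : Finite (dual N) := by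
  letI : CommGroup (G ⧸ N) := { (inferInstance : Group (G ⧸ N)) with mul_comm := mul_comm' }
  exact Finite.of_equiv _ (dualEquiv N).symm

theorem card_dual [IsMulCommutative (G ⧸ N)] : Nat.card (dual N) = N.index := by
  letI : CommGroup (G ⧸ N) := { (inferInstance : Group (G ⧸ N)) with mul_comm := mul_comm' }
  haveI : NeZero (Monoid.exponent (G ⧸ N) : ℂ) :=
    ⟨Nat.cast_ne_zero.2 Monoid.exponent_ne_zero_of_finite⟩
  rw [Nat.card_congr (dualEquiv N),
    CommGroup.card_monoidHom_of_hasEnoughRootsOfUnity (G ⧸ N) ℂ, Subgroup.index_eq_card]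

theorem exists_dual_ne_one [IsMulCommutative (G ⧸ N)] {g : G} (hg : g ∉ N) :
    ∃ lam ∈ dual N, lam g ≠ 1 := by
  by_contra hno
  push Not at hno
  refine hg ((QuotientGroup.eq_one_iff g).1 (TwoDegrees73.eq_of_forall_hom fun mu => ?_))
  rw [map_one]
  exact hno _ ((dualEquiv N).symm mu).2

theorem sum_dual [IsMulCommutative (G ⧸ N)] [Fintype (dual N)] (g : G) [Decidable (g ∈ N)] :
    ∑ lam : dual N, (((lam : G →* ℂˣ) g : ℂˣ) : ℂ) = if g ∈ N then (N.index : ℂ) else 0 := by
  split_ifs with hg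
  · rw [Finset.sum_congr rfl (g := fun _ => (1 : ℂ)) fun lam _ => by rw [lam.2 g hg, Units.val_one],
      Finset.sum_const, Finset.card_univ, nsmul_eq_mul, mul_one, ← Nat.card_eq_fintype_card,
      card_dual]
  · obtain ⟨mu, hmu, hne⟩ := exists_dual_ne_one N hg
    refine eq_zero_of_mul_eq_self_left (b := ((mu g : ℂˣ) : ℂ))
      (fun h1 => hne (Units.ext h1)) ?_
    rw [Finset.mul_sum]
    exact Fintype.sum_equiv (Equiv.mulLeft (⟨mu, hmu⟩ : dual N)) _ _ fun lam => by
      simp [Units.val_mul]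

/-- The product with a linear character. -/
def tw (θ : G → ℂ) (lam : G →* ℂˣ) : G → ℂ := fun g => θ g * lam g

theorem tw_tw (θ : G → ℂ) (a c : G →* ℂˣ) : tw (tw θ a) c = tw θ (a * c) :=
  funext fun g => by simp [tw, mul_assoc]

theorem tw_one (θ : G → ℂ) : tw θ 1 = θ := funext fun g => by simp [tw]

theorem linChar_mul_conj (lam : G →* ℂˣ) (g : G) : (lam g : ℂ) * conj (lam g : ℂ) = 1 := by
  have h : (lam g : ℂ) ^ orderOf g = 1 := by
    rw [← Units.val_pow_eq_pow_val, ← map_pow, pow_orderOf_eq_one, map_one, Units.val_one]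
  rw [Complex.mul_conj, Complex.normSq_eq_norm_sq,
    Complex.norm_eq_one_of_pow_eq_one h (orderOf_pos g).ne']
  norm_num

theorem isCharacter_tw {θ : G → ℂ} (h : Cfsg.IsCharacter G θ) (lam : G →* ℂˣ) :
    Cfsg.IsCharacter G (tw θ lam) :=
  isCharacter_mul h (isCharacter_of_isIrr (isIrr_linChar lam))

theorem isIrr_tw {θ : G → ℂ} (h : Cfsg.IsIrrCharacter G θ) (lam : G →* ℂˣ) :
    Cfsg.IsIrrCharacter G (tw θ lam) := by
  refine isIrr_of_classInner_self (isCharacter_tw (isCharacter_of_isIrr h) lam) ?_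
  rw [← classInner_isIrr_self h]
  simp only [Cfsg.classInner, tw, map_mul]
  congr 1
  refine Finset.sum_congr rfl fun g _ => ?_
  linear_combination (θ g * conj (θ g)) * linChar_mul_conj lam g

/-- Restriction to `N` averages the twists. -/
theorem sum_classInner_tw [IsMulCommutative (G ⧸ N)] [Fintype (dual N)] (ξ η : G → ℂ) :
    ∑ lam : dual N, Cfsg.classInner (tw ξ lam) η =
      Cfsg.classInner (fun n : N => ξ n) (fun n : N => η n) := by
  classical
  simp only [Cfsg.classInner, tw]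
  rw [← Finset.mul_sum, Finset.sum_comm]
  have h1 : ∀ g : G, ∑ lam : dual N, ξ g * (((lam : G →* ℂˣ) g : ℂˣ) : ℂ) * conj (η g) =
      (if g ∈ N then (N.index : ℂ) else 0) * (ξ g * conj (η g)) := fun g => by
    rw [← sum_dual N g, Finset.sum_mul]
    exact Finset.sum_congr rfl fun lam _ => by ring
  rw [Finset.sum_congr rfl fun g _ => h1 g]
  simp only [ite_mul, zero_mul]
  rw [← Finset.sum_filter, ← Finset.mul_sum,
    Finset.sum_subtype (Finset.univ.filter (· ∈ N)) (p := (· ∈ N)) (by simp)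
      (fun g => ξ g * conj (η g)), ← Subgroup.index_mul_card N, Nat.cast_mul, ← mul_assoc]
  congr 1
  have hne : (N.index : ℂ) ≠ 0 := Nat.cast_ne_zero.2 Subgroup.index_ne_zero_of_finite
  field_simp [subgroup_card_ne_zero N]

/-- The twists fixing a character. -/
def fixTw (θ : G → ℂ) : Subgroup (dual N) where
  carrier := {lam | tw θ lam = θ}
  one_mem' := tw_one θ
  mul_mem' {a c} ha hc := by
    show tw θ ((a : G →* ℂˣ) * c) = θ
    rw [← tw_tw, show tw θ (a : G →* ℂˣ) = θ from ha, show tw θ (c : G →* ℂˣ) = θ from hc]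
  inv_mem' {a} ha := by
    show tw θ ((a : G →* ℂˣ)⁻¹) = θ
    conv_lhs => rw [← show tw θ (a : G →* ℂˣ) = θ from ha]
    rw [tw_tw]
    exact (congrArg (tw θ) (mul_inv_cancel (a : G →* ℂˣ))).trans (tw_one θ)

theorem mem_fixTw {θ : G → ℂ} {lam : dual N} : lam ∈ fixTw N θ ↔ tw θ lam = θ := Iff.rfl

/-- A character vanishes where a twist fixing it is not one. -/
theorem eq_zero_of_fixTw {θ : G → ℂ} {lam : dual N} (h : lam ∈ fixTw N θ) {g : G}
    (hg : (lam : G →* ℂˣ) g ≠ 1) : θ g = 0 := by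
  have h1 : θ g * ((lam : G →* ℂˣ) g : ℂ) = θ g := congrFun ((mem_fixTw N).1 h) g
  by_contra hne
  exact hg (Units.ext (by simpa using (mul_eq_left₀ hne).1 h1))

/-- The norm of the restriction counts the fixing twists. -/
theorem classInner_restrict_self [IsMulCommutative (G ⧸ N)] {θ : G → ℂ}
    (hθ : Cfsg.IsIrrCharacter G θ) :
    Cfsg.classInner (fun n : N => θ n) (fun n : N => θ n) = (Nat.card (fixTw N θ) : ℂ) := by
  classical
  haveI := finite_dual N
  haveI := Fintype.ofFinite (dual N)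
  rw [← sum_classInner_tw N θ θ,
    Finset.sum_congr rfl (g := fun lam => if lam ∈ fixTw N θ then (1 : ℂ) else 0) fun lam _ => ?_,
    Finset.sum_boole, Nat.card_eq_fintype_card, Fintype.card_subtype]
  split_ifs with hlam
  · rw [(mem_fixTw N).1 hlam, classInner_isIrr_self hθ]
  · exact classInner_isIrr_ne (isIrr_tw hθ _) hθ hlam

theorem card_fixTw_dvd [IsMulCommutative (G ⧸ N)] (θ : G → ℂ) :
    Nat.card (fixTw N θ) ∣ N.index :=
  card_dual N ▸ Subgroup.card_subgroup_dvd_card _

/-- A character fixed by a group of twists meets every character in a multiple of its order. -/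
theorem card_fixTw_dvd_classInner [IsMulCommutative (G ⧸ N)] {θ ξ : G → ℂ}
    (hθ : Cfsg.IsIrrCharacter G θ) (hξ : Cfsg.IsCharacter G ξ) :
    ∃ k : ℕ, Cfsg.classInner (fun n : N => θ n) (fun n : N => ξ n) =
      ((Nat.card (fixTw N θ) * k : ℕ) : ℂ) := by
  classical
  haveI := finite_dual N
  haveI := Fintype.ofFinite (dual N)
  choose c hc using fun lam : dual N =>
    classInner_characters (isCharacter_tw (isCharacter_of_isIrr hθ) (lam : G →* ℂˣ)) hξ
  have hinv : ∀ s : fixTw N θ, ∀ lam : dual N, c ((s : dual N) * lam) = c lam := by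
    intro s lam
    apply Nat.cast_injective (R := ℂ)
    rw [← hc, ← hc, Subgroup.coe_mul, ← tw_tw, (mem_fixTw N).1 s.2]
  refine ⟨∑ q : dual N ⧸ fixTw N θ, c q.out, ?_⟩
  rw [← sum_classInner_tw N θ ξ, Finset.sum_congr rfl fun lam _ => hc lam, ← Nat.cast_sum,
    ← Finset.sum_fiberwise Finset.univ (fun lam : dual N => (lam : dual N ⧸ fixTw N θ)),
    Finset.mul_sum]
  congr 1
  refine Finset.sum_congr rfl fun q _ => ?_
  rw [Finset.sum_congr rfl (g := fun _ => c q.out) fun lam hlam => ?_, Finset.sum_const,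
    smul_eq_mul]
  · congr 1
    rw [← Fintype.card_subtype, ← Nat.card_eq_fintype_card]
    refine Nat.card_congr
      { toFun := fun lam => ⟨q.out⁻¹ * lam.1, QuotientGroup.eq.1 (q.out_eq'.trans lam.2.symm)⟩
        invFun := fun s => ⟨q.out * s.1, ?_⟩
        left_inv := fun lam => Subtype.ext (by simp)
        right_inv := fun s => Subtype.ext (by simp) }
    rw [QuotientGroup.mk_mul_of_mem _ s.2, QuotientGroup.out_eq']
  · have hm := QuotientGroup.eq.1 (q.out_eq'.trans (Finset.mem_filter.1 hlam).2.symm)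
    conv_lhs => rw [show lam = (⟨_, hm⟩ : fixTw N θ) * q.out from
      (mul_inv_cancel_left q.out lam).symm.trans (mul_comm _ _ : _ = _)]
    exact hinv _ _

end Dual

end CfsgLib.IsaacsPassman
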