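import Cfsg.Agent.IsaacsPassman.Basic

/-!
# The step for a quotient with central derived subgroup
-/

set_option autoImplicit false
set_option linter.unusedSectionVars false
set_option linter.style.haveILetI false

namespace CfsgLib.IsaacsPassman

open CfsgLib.Characters CfsgLib.OddOrderChar CfsgLib.CharactersDeep
open scoped ComplexConjugate commutatorElement

universe u

variable {G : Type u} [Group G] [Fintype G] {b : ℕ}

theorem central_data (N : Subgroup G) [N.Normal]
    (hne : commutator (G ⧸ N) ≠ ⊥)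
    (hmin : ∀ M : Subgroup (G ⧸ N), M.Normal → M ≠ ⊥ → commutator (G ⧸ N) ≤ M)
    (hc : commutator (G ⧸ N) ≤ Subgroup.center (G ⧸ N)) :
    ∃ (ψ : G ⧸ N → ℂ) (f : ℕ), Cfsg.IsIrrCharacter (G ⧸ N) ψ ∧ ψ 1 = f ∧ 1 < f ∧
      (∀ g, g ∉ Subgroup.center (G ⧸ N) → ψ g = 0) ∧
      (∀ z ∈ Subgroup.center (G ⧸ N), ψ z * conj (ψ z) = (f : ℂ) ^ 2) ∧
      (Subgroup.center (G ⧸ N)).index = f ^ 2 := by
  classical
  haveI := Fintype.ofFinite (G ⧸ N)
  obtain ⟨⟨ψ, hψ⟩, hψ1⟩ := SameDegree.exists_nonlinear hne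
  obtain ⟨n, ρ, hρ, hρc⟩ := hψ
  haveI := hρ
  have hψirr : Cfsg.IsIrrCharacter (G ⧸ N) ψ := ⟨n, ρ, hρ, hρc⟩
  obtain ⟨f, hf0, hf⟩ := exists_degree_pos hψirr
  have hf1 : f ≠ 1 := fun e => hψ1 (hf.trans (by rw [e, Nat.cast_one]))
  have hfn : Module.finrank ℂ (Fin n → ℂ) = f := by
    apply Nat.cast_injective (R := ℂ)
    rw [← hf, ← hρc, Representation.char_one]
  set Z := Subgroup.center (G ⧸ N)
  have hzabs : ∀ z ∈ Z, ψ z * conj (ψ z) = (f : ℂ) ^ 2 := fun z hz => by
    obtain ⟨c, hc⟩ := central_scalar ρ (z := z) hz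
    have h1 := (norm_char_eq_iff_scalar ρ z).2 ⟨c, by
      rw [hc]⟩
    rw [hfn, hρc] at h1
    rw [Complex.mul_conj, Complex.normSq_eq_norm_sq, h1]
    push_cast
    rfl
  have hvan : ∀ g, g ∉ Z → ψ g = 0 := fun g hg => by
    by_contra hg0
    rw [Subgroup.mem_center_iff] at hg
    push Not at hg
    obtain ⟨x, hx⟩ := hg
    have hcm : ⁅x, g⁆ ∈ commutator (G ⧸ N) :=
      Subgroup.commutator_mem_commutator (Subgroup.mem_top _) (Subgroup.mem_top _)
    have hcz := hc hcm
    obtain ⟨c, hcs⟩ := central_scalar ρ (z := ⁅x, g⁆) hcz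
    -- the scalar of the commutator is one
    have hsc : ρ (⁅x, g⁆ * g) = c • ρ g := by
      rw [map_mul, hcs]
      exact smul_one_mul c (ρ g)
    have h1 : ψ (⁅x, g⁆ * g) = c * ψ g := by
      rw [← hρc, Representation.character, hsc, map_smul]
      rfl
    have h2 : ψ (⁅x, g⁆ * g) = ψ g := by
      rw [show ⁅x, g⁆ * g = x * g * x⁻¹ by rw [commutatorElement_def]; group]
      exact isClassFunction_of_isIrr hψirr g x
    have hc1 : c = 1 := (mul_eq_right₀ hg0).1 (h1.symm.trans h2)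
    -- so the derived subgroup acts trivially
    set M : Subgroup (G ⧸ N) :=
      { carrier := {w | w ∈ commutator (G ⧸ N) ∧ ρ w = 1}
        one_mem' := ⟨one_mem _, map_one ρ⟩
        mul_mem' := fun {a c} ha hc => ⟨mul_mem ha.1 hc.1, by rw [map_mul, ha.2, hc.2, one_mul]⟩
        inv_mem' := fun {a} ha => ⟨inv_mem ha.1, by
          have := map_mul ρ a⁻¹ a
          rw [inv_mul_cancel, map_one, ha.2, mul_one] at this
          exact this.symm⟩ }
    have hMn : M.Normal := ⟨fun w hw y => by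
      rw [show y * w * y⁻¹ = w by
        rw [Subgroup.mem_center_iff.1 (hc hw.1) y, mul_inv_cancel_right]]
      exact hw⟩
    have hcne : ⁅x, g⁆ ≠ 1 := fun e => hx (commutatorElement_eq_one_iff_mul_comm.1 e)
    have hcM : ⁅x, g⁆ ∈ M := ⟨hcm, by rw [hcs, hc1]; exact one_smul _ _⟩
    have hle := hmin M hMn fun e => hcne ((Subgroup.eq_bot_iff_forall M).1 e _ hcM)
    obtain ⟨χ, hχ, hχe⟩ := exists_irr_quotient (commutator (G ⧸ N)) hψirr fun w hw => by
      rw [← hρc, Representation.character, Representation.character, (hle hw).2, map_one ρ]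
    haveI : IsMulCommutative ((G ⧸ N) ⧸ commutator (G ⧸ N)) := ⟨⟨fun a c => by
      induction a using QuotientGroup.induction_on with | _ a =>
      induction c using QuotientGroup.induction_on with | _ c =>
      rw [← QuotientGroup.mk_mul, ← QuotientGroup.mk_mul, QuotientGroup.eq]
      have hmem : ⁅c⁻¹, a⁻¹⁆ ∈ commutator (G ⧸ N) :=
        Subgroup.commutator_mem_commutator (Subgroup.mem_top _) (Subgroup.mem_top _)
      rw [commutatorElement_def] at hmem
      simpa [mul_assoc] using hmem⟩⟩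
    haveI := Fintype.ofFinite ((G ⧸ N) ⧸ commutator (G ⧸ N))
    have h3 : ψ 1 = 1 := by
      rw [hχe]
      simpa using GaloisAverage.irr_one_eq_one hχ
    rw [hf] at h3
    exact hf1 (by exact_mod_cast h3)
  -- the norm of `ψ`
  have hsum : ∀ {A : Type u} [Group A] [Fintype A] (π : A →* G ⧸ N) (F : A → ℂ),
      ∑ a : A, F a * (ψ (π a) * conj (ψ (π a))) =
        (f : ℂ) ^ 2 * ∑ a ∈ Finset.univ.filter (fun a => π a ∈ Z), F a := by
    intro A _ _ π F
    rw [Finset.mul_sum, Finset.sum_filter]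
    refine Finset.sum_congr rfl fun a _ => ?_
    by_cases ha : π a ∈ Z
    · rw [if_pos ha, hzabs _ ha, mul_comm]
    · rw [if_neg ha, hvan _ ha, zero_mul, mul_zero]
  have hidx : Z.index = f ^ 2 := by
    have h1 := classInner_isIrr_self hψirr
    rw [Cfsg.classInner, inv_mul_eq_one₀ (natCard_ne_zero)] at h1
    have h2 := hsum (MonoidHom.id (G ⧸ N)) fun _ => 1
    simp only [one_mul, MonoidHom.id_apply, Finset.sum_const, nsmul_eq_mul, mul_one] at h2
    rw [← h1, ← Fintype.card_subtype, ← Nat.card_eq_fintype_card] at h2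
    have h3 : Nat.card (G ⧸ N) = f ^ 2 * Nat.card Z := by exact_mod_cast h2
    rw [← Z.index_mul_card] at h3
    exact Nat.eq_of_mul_eq_mul_right Nat.card_pos h3
  exact ⟨ψ, f, hψirr, hf, by omega, hvan, hzabs, hidx⟩

theorem central_step (h : DegLe b G) (N : Subgroup G) [N.Normal]
    (hne : commutator (G ⧸ N) ≠ ⊥)
    (hmin : ∀ M : Subgroup (G ⧸ N), M.Normal → M ≠ ⊥ → commutator (G ⧸ N) ≤ M)
    (hc : commutator (G ⧸ N) ≤ Subgroup.center (G ⧸ N)) :
    ∃ H : Subgroup G, H.index ≤ b ^ 2 ∧ DegLe (b - 1) H := by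
  classical
  haveI := Fintype.ofFinite (G ⧸ N)
  obtain ⟨ψ, f, hψirr, hf, hf1, hvan, hzabs, hidx⟩ := central_data N hne hmin hc
  set Z := Subgroup.center (G ⧸ N)
  have hf0 : 0 < f := by omega
  have hsum : ∀ {A : Type u} [Group A] [Fintype A] (π : A →* G ⧸ N) (F : A → ℂ),
      ∑ a : A, F a * (ψ (π a) * conj (ψ (π a))) =
        (f : ℂ) ^ 2 * ∑ a ∈ Finset.univ.filter (fun a => π a ∈ Z), F a := by
    intro A _ _ π F
    rw [Finset.mul_sum, Finset.sum_filter]
    refine Finset.sum_congr rfl fun a _ => ?_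
    by_cases ha : π a ∈ Z
    · rw [if_pos ha, hzabs _ ha, mul_comm]
    · rw [if_neg ha, hvan _ ha, zero_mul, mul_zero]
  set H : Subgroup G := Z.comap (QuotientGroup.mk' N)
  have hH : H.index = f ^ 2 := by
    rw [← hidx, Subgroup.index_comap_of_surjective _ (QuotientGroup.mk'_surjective N)]
  have hfb : f ≤ b := h (fun g => ψ (QuotientGroup.mk' N g)) f
    (isIrr_comp (QuotientGroup.mk' N) (QuotientGroup.mk'_surjective N) hψirr) (by simpa using hf)
  refine ⟨H, hH ▸ Nat.pow_le_pow_left hfb 2, h.pred_subgroup H ?_⟩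
  rintro ⟨θ, hθ, hb⟩
  haveI := Fintype.ofFinite H
  obtain ⟨χ, hχ, hres, hχb⟩ := exists_ext_max h H hθ hb
  have hb0 : 0 < b := lt_of_lt_of_le hf0 hfb
  have hP : Cfsg.IsIrrCharacter G (fun g => χ g * ψ (QuotientGroup.mk' N g)) := by
    refine isIrr_of_classInner_self (isCharacter_mul (isCharacter_of_isIrr hχ)
      (isCharacter_of_isIrr
        (isIrr_comp (QuotientGroup.mk' N) (QuotientGroup.mk'_surjective N) hψirr))) ?_
    rw [Cfsg.classInner, inv_mul_eq_one₀ natCard_ne_zero, ← H.index_mul_card, hH, Nat.cast_mul,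
      Nat.cast_pow]
    have h1 := classInner_isIrr_self hθ
    rw [← hres, Cfsg.classInner, inv_mul_eq_one₀ (subgroup_card_ne_zero H)] at h1
    rw [h1, ← Finset.sum_subtype (Finset.univ.filter fun g : G => QuotientGroup.mk' N g ∈ Z)
      (p := (· ∈ H)) (fun g => by
        simp only [Finset.mem_filter, Finset.mem_univ, true_and]; exact Iff.rfl) (fun g => χ g * conj (χ g)),
      ← hsum (QuotientGroup.mk' N) (fun g => χ g * conj (χ g))]
    exact Finset.sum_congr rfl fun g _ => by rw [map_mul]; ring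
  have hle := h _ (b * f) hP (by simp [hχb, hf])
  have : b * 2 ≤ b * f := Nat.mul_le_mul_left b (by omega)
  omega

end CfsgLib.IsaacsPassman
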