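import Cfsg.Agent.IsaacsPassman.Basic

/-!
# The Frobenius quotient step
-/

set_option autoImplicit false
set_option linter.unusedSectionVars false
set_option linter.style.haveILetI false

namespace CfsgLib.IsaacsPassman

open CfsgLib.Characters CfsgLib.OddOrderChar
open scoped ComplexConjugate commutatorElement

universe u

variable {G : Type u} [Group G] [Fintype G] {b : ℕ}

theorem conjBy_tw (K : Subgroup G) [hK : K.Normal] (θ : K → ℂ) (lam : K →* ℂˣ) (g : G) :
    conjBy K (tw θ lam) g =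
      tw (conjBy K θ g) (lam.comp (MulAut.conjNormal (H := K) g).toMonoidHom) :=
  funext fun k => by
    simp only [tw, conjBy, MonoidHom.comp_apply, MulEquiv.coe_toMonoidHom]
    congr 2

/-- A twist of a character with irreducible restriction is moved by everything outside `K`. -/
theorem exists_regular_tw (N K : Subgroup G) [N.Normal] [hKn : K.Normal] [Fintype K]
    [(N.subgroupOf K).Normal] [Fintype (N.subgroupOf K)] [IsMulCommutative (K ⧸ N.subgroupOf K)]
    (hlt : K.index < N.relIndex K)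
    (hfree : ∀ lam : K →* ℂˣ, (∀ n : K, (n : G) ∈ N → lam n = 1) → ∀ g, g ∉ K →
      lam.comp (MulAut.conjNormal (H := K) g).toMonoidHom = lam → lam = 1)
    {θ : K → ℂ} (hθ : Cfsg.IsIrrCharacter K θ) (hθfix : fixTw (N.subgroupOf K) θ = ⊥) :
    ∃ lam : dual (N.subgroupOf K), ∀ g, g ∉ K → conjBy K (tw θ lam.1) g ≠ tw θ lam.1 := by
  classical
  set N' := N.subgroupOf K with hN'
  haveI := finite_dual N'
  set f := K.index with hf
  set w := N.relIndex K
  have hwi : N'.index = w := rfl
  -- conjugation of twists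
  let cj : G → dual N' → dual N' := fun g lam =>
    ⟨lam.1.comp (MulAut.conjNormal (H := K) g).toMonoidHom, fun n hn => lam.2 _
      (Subgroup.mem_subgroupOf.2 (by
        simpa using (inferInstance : N.Normal).conj_mem _ (Subgroup.mem_subgroupOf.1 hn) g))⟩
  have hcj : ∀ g lam, (θ : K → ℂ) → conjBy K (tw θ (lam : dual N').1) g =
      tw (conjBy K θ g) (cj g lam).1 := fun g lam θ => conjBy_tw K θ lam.1 g
  have hcjfix : ∀ g, g ∉ K → ∀ lam : dual N', cj g lam = lam → lam = 1 := fun g hg lam e =>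
    Subtype.ext (hfree lam.1 (fun n hn => lam.2 n (Subgroup.mem_subgroupOf.2 hn)) g hg
      (congrArg Subtype.val e))
  have hcjmul : ∀ g lam mu, cj g (lam * mu) = cj g lam * cj g mu := fun g lam mu =>
    Subtype.ext (MonoidHom.ext fun _ => rfl)
  by_contra hno
  push Not at hno
  choose g hg hgfix using hno
  haveI := Fintype.ofFinite (G ⧸ K)
  have hinj : Function.Injective fun lam : dual N' => (QuotientGroup.mk (g lam) : G ⧸ K) := by
    intro a c e
    obtain ⟨k, hk, hkg⟩ : ∃ k ∈ K, g c = g a * k :=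
      ⟨(g a)⁻¹ * g c, QuotientGroup.eq.1 e, (mul_inv_cancel_left _ _).symm⟩
    have hc2 : conjBy K (tw θ c.1) (g a) = tw θ c.1 := by
      have h1 := hgfix c
      rw [hkg, ← conjBy_mul] at h1
      have h2 : conjBy K (conjBy K (tw θ c.1) (g a)) k = conjBy K (tw θ c.1) (g a) := funext fun x =>
        (congrArg _ (Subtype.ext rfl : (⟨_, _⟩ : K) = ⟨k, hk⟩ * x * ⟨k, hk⟩⁻¹)).trans
          (isClassFunction_of_isIrr (CharactersDeep.Clifford.isIrr_conjBy K (isIrr_tw hθ c.1) _) x
            ⟨k, hk⟩)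
      rwa [h2] at h1
    have ha2 := hgfix a
    rw [hcj] at ha2 hc2
    have e1 : ∀ x : dual N', tw (conjBy K θ (g a)) (cj (g a) x).1 = tw θ x.1 →
        conjBy K θ (g a) = tw θ (x * (cj (g a) x)⁻¹).1 := fun x hx => by
      rw [Subgroup.coe_mul, ← tw_tw, ← hx, tw_tw, Subgroup.coe_inv]
      exact ((congrArg (tw _) (mul_inv_cancel ((cj (g a) x).1))).trans (tw_one _)).symm
    have e2 := (e1 a ha2).symm.trans (e1 c hc2)
    have h3 : (a * (cj (g a) a)⁻¹) * (c * (cj (g a) c)⁻¹)⁻¹ ∈ fixTw N' θ := by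
      rw [mem_fixTw, Subgroup.coe_mul, ← tw_tw, e2, tw_tw, ← Subgroup.coe_mul, mul_inv_cancel,
        Subgroup.coe_one, tw_one]
    rw [hθfix, Subgroup.mem_bot, mul_inv_eq_one] at h3
    have h4 : cj (g a) (a * c⁻¹) = a * c⁻¹ := by
      have h5 : cj (g a) (a * c⁻¹) * cj (g a) c = cj (g a) a := by
        rw [← hcjmul, inv_mul_cancel_right]
      rw [← eq_mul_inv_iff_mul_eq] at h5
      rw [h5]
      simp only [← div_eq_mul_inv] at h3 ⊢
      exact (div_eq_div_iff_div_eq_div.1 h3).symm
    exact mul_inv_eq_one.1 (hcjfix _ (hg a) _ h4)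
  have hle := Nat.card_le_card_of_injective (fun lam : dual N' =>
    (⟨(QuotientGroup.mk (g lam) : G ⧸ K), fun h1 => hg lam ((QuotientGroup.eq_one_iff _).1 h1)⟩ :
      {q : G ⧸ K // q ≠ 1})) (fun a c e => hinj (congrArg Subtype.val e))
  have h2 : Nat.card {q : G ⧸ K // q ≠ 1} ≤ f := by
    rw [hf, Subgroup.index_eq_card]
    exact Nat.card_le_card_of_injective _ Subtype.val_injective
  rw [card_dual, hwi] at hle
  omega

/-- A quotient which is a Frobenius group with abelian kernel yields a subgroup of index at most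
`b ^ 2` without characters of degree `b`. -/
theorem frob_step (h : DegLe b G) (N K L : Subgroup G) [N.Normal] [hKn : K.Normal] (hNK : N ≤ K)
    (hKL : K ⊓ L = N) {r : ℕ} [hr : Fact r.Prime]
    (hexp : ∀ k ∈ K, k ^ r ∈ N) (hKc : ⁅K, K⁆ ≤ N) (hLc : ⁅L, L⁆ ≤ N)
    (hrK : r ∣ N.relIndex K) (hL : L.index = N.relIndex K)
    (hrf : ¬ r ∣ K.index) (hcop : (N.relIndex K).Coprime K.index)
    (hlt : K.index < N.relIndex K) (hK1 : K ≠ ⊤)
    (hmin : ∀ M : Subgroup G, M.Normal → N ≤ M → M ≤ K → M = N ∨ M = K)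
    (hfree : ∀ lam : K →* ℂˣ, (∀ n : K, (n : G) ∈ N → lam n = 1) → ∀ g, g ∉ K →
      lam.comp (MulAut.conjNormal (H := K) g).toMonoidHom = lam → lam = 1) :
    ∃ H : Subgroup G, H.index ≤ b ^ 2 ∧ DegLe (b - 1) H := by
  classical
  haveI := Fintype.ofFinite K
  haveI := Fintype.ofFinite L
  haveI := Fintype.ofFinite N
  set N' := N.subgroupOf K with hN'
  haveI : N'.Normal := Subgroup.normal_subgroupOf
  haveI := Fintype.ofFinite N'
  haveI : IsMulCommutative (K ⧸ N') := ⟨⟨fun x y => by
    induction x using QuotientGroup.induction_on with | _ x =>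
    induction y using QuotientGroup.induction_on with | _ y =>
    rw [← QuotientGroup.mk_mul, ← QuotientGroup.mk_mul, QuotientGroup.eq, Subgroup.mem_subgroupOf]
    have hc : ⁅(y : G)⁻¹, (x : G)⁻¹⁆ ∈ N :=
      hKc (Subgroup.commutator_mem_commutator (inv_mem y.2) (inv_mem x.2))
    rw [commutatorElement_def] at hc
    simpa [mul_assoc] using hc⟩⟩
  haveI := finite_dual N'
  haveI := Fintype.ofFinite (dual N')
  set w := N.relIndex K with hw
  set f := K.index with hf
  have hwi : N'.index = w := rfl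
  have hw1 : 1 < w := lt_of_lt_of_le hr.out.one_lt
    (Nat.le_of_dvd (Nat.pos_of_ne_zero Subgroup.index_ne_zero_of_finite) hrK)
  have hf0 : 0 < f := Nat.pos_of_ne_zero Subgroup.index_ne_zero_of_finite
  -- the exponent of the dual
  have hdual_r : ∀ lam : dual N', lam ^ r = 1 := fun lam => Subtype.ext (MonoidHom.ext fun k => by
    rw [Subgroup.coe_pow, MonoidHom.pow_apply, ← map_pow]
    exact lam.2 (k ^ r) (Subgroup.mem_subgroupOf.2 (by simpa using hexp k k.2)))
  have hfixr : ∀ θ : K → ℂ, fixTw N' θ ≠ ⊥ → r ∣ Nat.card (fixTw N' θ) := fun θ hne => by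
    obtain ⟨x, hx, hx1⟩ := (Subgroup.ne_bot_iff_exists_ne_one.1 hne).elim
      fun y hy => (⟨y.1, y.2, fun e => hy (Subtype.ext e)⟩ :
        ∃ x, x ∈ fixTw N' θ ∧ x ≠ (1 : dual N'))
    have ho : orderOf (⟨x, hx⟩ : fixTw N' θ) = r := by
      refine orderOf_eq_prime (Subtype.ext (by simpa using hdual_r x)) fun e => hx1 ?_
      exact congrArg Subtype.val e
    exact ho ▸ orderOf_dvd_natCard _
  -- conjugation of twists
  let cj : G → dual N' → dual N' := fun g lam =>
    ⟨lam.1.comp (MulAut.conjNormal (H := K) g).toMonoidHom, fun n hn => lam.2 _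
      (Subgroup.mem_subgroupOf.2 (by
        simpa using (inferInstance : N.Normal).conj_mem _ (Subgroup.mem_subgroupOf.1 hn) g))⟩
  have hcj : ∀ g lam, (θ : K → ℂ) → conjBy K (tw θ (lam : dual N').1) g =
      tw (conjBy K θ g) (cj g lam).1 := fun g lam θ => conjBy_tw K θ lam.1 g
  have hcjfix : ∀ g, g ∉ K → ∀ lam : dual N', cj g lam = lam → lam = 1 := fun g hg lam e =>
    Subtype.ext (hfree lam.1 (fun n hn => lam.2 n (Subgroup.mem_subgroupOf.2 hn)) g hg
      (congrArg Subtype.val e))
  have hcjmul : ∀ g lam mu, cj g (lam * mu) = cj g lam * cj g mu := fun g lam mu =>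
    Subtype.ext (MonoidHom.ext fun _ => rfl)
  -- induced twists
  have hind : ∀ (θ : K → ℂ) (lam : dual N'), Cfsg.IsIrrCharacter K θ →
      (∀ g, g ∉ K → conjBy K (tw θ lam.1) g ≠ tw θ lam.1) → ∀ d : ℕ, θ 1 = d →
      Cfsg.IsIrrCharacter G (Cfsg.indFun K (tw θ lam.1)) ∧ f * d ≤ b := by
    intro θ lam hθ hst d hd
    have hi := DegreeGraph.isIrr_indFun_of_stabilizer K (isIrr_tw hθ lam.1) hst
    refine ⟨hi, h _ _ hi ?_⟩
    rw [OddOrderChar.indFun_one, show tw θ lam.1 1 = θ 1 by simp [tw], hd, Nat.cast_mul]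
  -- a nontrivial twist
  obtain ⟨mu, hmu⟩ : ∃ mu : dual N', mu ≠ 1 := by
    haveI : Nontrivial (dual N') := Finite.one_lt_card_iff_nontrivial.1 (by rw [card_dual, hwi]; exact hw1)
    exact exists_ne 1
  have hfb : f ≤ b := by
    have hone : Cfsg.IsIrrCharacter K (fun _ => (1 : ℂ)) := isIrr_one
    refine le_of_le_of_eq (le_of_eq (mul_one f).symm) rfl |>.trans
      (hind (fun _ => 1) mu hone (fun g hg e => hmu (hcjfix g hg mu ?_)) 1 (by simp)).2
    refine Subtype.ext (MonoidHom.ext fun k => Units.ext ?_)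
    have := congrFun e k
    rw [hcj] at this
    simpa [tw, conjBy] using this
  -- characters of degree `b` of `K` vanish outside `N`
  have hK : ∀ θ : K → ℂ, Cfsg.IsIrrCharacter K θ → θ 1 = b →
      (∀ k : K, (k : G) ∉ N → θ k = 0) ∧ Nat.card (fixTw N' θ) = w := by
    intro θ hθ hb
    obtain ⟨χ, hχ, hres, -⟩ := exists_ext_max h K hθ hb
    have hinv : ∀ g, conjBy K θ g = θ := fun g => by
      rw [← hres]; exact CharactersDeep.Clifford.conjBy_restrict K (isClassFunction_of_isIrr hχ) g
    have hbpos : 0 < b := Nat.pos_of_ne_zero fun e => irr_one_ne_zero hθ (by simp [hb, e])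
    by_cases hbot : fixTw N' θ = ⊥
    · exfalso
      have h1 := (hind θ mu hθ (fun g hg e => ?_) b hb).2
      · have h2 : f = 1 := by
          by_contra hne
          have : 2 * b ≤ f * b := Nat.mul_le_mul_right b (by omega)
          omega
        exact hK1 (Subgroup.index_eq_one.1 h2)
      · rw [hcj, hinv] at e
        have h3 : cj g mu * mu⁻¹ ∈ fixTw N' θ := by
          rw [mem_fixTw, Subgroup.coe_mul, ← tw_tw, e, tw_tw, ← Subgroup.coe_mul, mul_inv_cancel,
            Subgroup.coe_one, tw_one]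
        rw [hbot, Subgroup.mem_bot, mul_inv_eq_one] at h3
        exact hmu (hcjfix g hg mu h3)
    · set M : Subgroup K :=
        { carrier := {k | ∀ nu ∈ fixTw N' θ, (nu : K →* ℂˣ) k = 1}
          one_mem' := fun nu _ => map_one _
          mul_mem' := fun {x y} hx hy nu hnu => by rw [map_mul, hx nu hnu, hy nu hnu, mul_one]
          inv_mem' := fun {x} hx nu hnu => by rw [map_inv, hx nu hnu, inv_one] } with hM
      have hMn : (M.map K.subtype).Normal := ⟨fun x hx g => by
        obtain ⟨k, hk, rfl⟩ := hx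
        refine ⟨⟨g * k * g⁻¹, hKn.conj_mem k k.2 g⟩, fun nu hnu => ?_, rfl⟩
        have h2 : cj g nu ∈ fixTw N' θ := by
          rw [mem_fixTw]
          have h4 := hcj g nu θ
          rwa [(mem_fixTw N').1 hnu, hinv, eq_comm] at h4
        refine (congrArg (nu : K →* ℂˣ) (Subtype.ext ?_)).trans (hk (cj g nu) h2)
        simp⟩
      have hNM : N ≤ M.map K.subtype := fun n hn =>
        ⟨⟨n, hNK hn⟩, fun nu _ => nu.2 ⟨n, hNK hn⟩ (Subgroup.mem_subgroupOf.2 hn), rfl⟩
      rcases hmin _ hMn hNM (Subgroup.map_subtype_le M) with h5 | h5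
      · have hvan : ∀ k : K, (k : G) ∉ N → θ k = 0 := fun k hk => by
          have hkM : k ∉ M := fun hkM => hk (h5 ▸ Subgroup.mem_map_of_mem K.subtype hkM)
          by_contra hne
          exact hkM fun nu hnu => by_contra fun h' => hne (eq_zero_of_fixTw N' hnu h')
        refine ⟨hvan, ?_⟩
        have htop : fixTw N' θ = ⊤ := eq_top_iff.2 fun nu _ => (mem_fixTw N').2 (funext fun k => by
          by_cases hk : (k : G) ∈ N
          · simp [tw, nu.2 k (Subgroup.mem_subgroupOf.2 hk)]
          · simp [tw, hvan k hk])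
        rw [htop, Subgroup.card_top, card_dual, hwi]
      · exfalso
        refine hbot ((Subgroup.eq_bot_iff_forall _).2 fun nu hnu => Subtype.ext (MonoidHom.ext fun k => ?_))
        have hk : (k : G) ∈ M.map K.subtype := by rw [h5]; exact k.2
        obtain ⟨k', hk', e⟩ := hk
        rw [← Subtype.ext e]
        exact hk' nu hnu
  -- no character of degree `b` on `N`
  have hNlt : DegLe (b - 1) N := by
    refine h.pred_subgroup N ?_
    rintro ⟨φ, hφ, hb⟩
    obtain ⟨χ, hχ, hres, hχb⟩ := exists_ext_max h N hφ hb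
    set ξ : K → ℂ := fun k => χ k with hξ
    have hξc : Cfsg.IsCharacter K ξ := isCharacter_restrict K (isCharacter_of_isIrr hχ)
    have hn1 : Cfsg.classInner (fun n : N' => ξ n) (fun n : N' => ξ n) = 1 := by
      rw [hξ, classInner_subgroupOf hNK χ χ, hres, classInner_isIrr_self hφ]
    have hξi : Cfsg.IsIrrCharacter K ξ := by
      refine isIrr_of_classInner_self hξc ?_
      choose c hc using fun lam : dual N' =>
        classInner_characters (isCharacter_tw hξc (lam : K →* ℂˣ)) hξc
      rw [← sum_classInner_tw N' ξ ξ, Finset.sum_congr rfl fun lam _ => hc lam, ← Nat.cast_sum,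
        Nat.cast_eq_one] at hn1
      have h0 : c 1 ≤ ∑ lam, c lam := Finset.single_le_sum (fun _ _ => Nat.zero_le _) (Finset.mem_univ _)
      have h1 := hc 1
      rw [Subgroup.coe_one, tw_one] at h1
      rw [h1, Nat.cast_eq_one]
      have h2 : c 1 ≠ 0 := fun e => by
        rw [e, Nat.cast_zero] at h1
        obtain ⟨θ, hθ, hne⟩ := exists_constituent hξc
          (fun e => irr_one_ne_zero hχ (by simpa [hξ] using congrFun e 1))
        exact (classInner_eq_zero_constituent hξc hξc h1 hθ).elim hne hne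
      omega
    have h1 := (hK ξ hξi (by simp [hξ, hχb])).2
    rw [classInner_restrict_self N' hξi, h1, Nat.cast_eq_one] at hn1
    omega
  by_cases hKex : ∃ θ : K → ℂ, Cfsg.IsIrrCharacter K θ ∧ θ 1 = b
  swap
  · exact ⟨K, hfb.trans (Nat.le_self_pow two_ne_zero b), h.pred_subgroup K hKex⟩
  obtain ⟨θ₀, hθ₀, hθ₀b⟩ := hKex
  obtain ⟨hvan₀, hfix₀⟩ := hK θ₀ hθ₀ hθ₀b
  -- a constituent below
  obtain ⟨η, hη, hηne⟩ := DegreeGraph.exists_under N' hθ₀
  have hθ₀N := isCharacter_restrict N' (isCharacter_of_isIrr hθ₀)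
  obtain ⟨m, hm⟩ := classInner_character_irr hθ₀N hη
  obtain ⟨e, he0, he⟩ := exists_degree_pos hη
  have hmw : m ^ 2 ≤ w := by
    choose c hc using fun ψ : Cfsg.IrrCharacter N' => classInner_character_irr hθ₀N ψ.2
    have h1 := classInner_restrict_self N' hθ₀
    rw [hfix₀, classInner_eq_sum (isClassFunction_of_isCharacter hθ₀N),
      Finset.sum_congr rfl (g := fun ψ => ((c ψ ^ 2 : ℕ) : ℂ)) fun ψ _ => by
        rw [hc, Complex.conj_natCast, Nat.cast_pow, sq], ← Nat.cast_sum, Nat.cast_inj] at h1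
    have hmc : c ⟨η, hη⟩ = m := by
      apply Nat.cast_injective (R := ℂ)
      rw [← hc, ← hm]
    rw [← h1, ← hmc]
    exact Finset.single_le_sum (f := fun ψ => c ψ ^ 2) (fun _ _ => Nat.zero_le _) (Finset.mem_univ _)
  have hwe : w * e = m * b := by
    have hF := character_expansion (OddOrderChar.isCharacter_indFun N' (isCharacter_of_isIrr hη))
    have hcoef : ∀ χ : Cfsg.IrrCharacter K, Cfsg.classInner (Cfsg.indFun N' η) (χ : K → ℂ) =
        if (χ : K → ℂ) = θ₀ then (m : ℂ) else 0 := fun χ => by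
      rw [classInner_indFun_left N' η (isClassFunction_of_isIrr χ.2), classInner_conj_symm]
      split_ifs with hχ
      · rw [hχ, hm, Complex.conj_natCast]
      · rw [map_eq_zero]
        have h0 : Cfsg.classInner (fun n : N' => (χ : K → ℂ) n) (fun n : N' => θ₀ n) = 0 := by
          rw [← sum_classInner_tw N' (χ : K → ℂ) θ₀]
          refine Finset.sum_eq_zero fun lam _ => classInner_isIrr_ne (isIrr_tw χ.2 _) hθ₀ fun e => hχ ?_
          have h6 : lam⁻¹ ∈ fixTw N' θ₀ := by
            have : fixTw N' θ₀ = ⊤ := Subgroup.eq_top_of_card_eq _ (by rw [hfix₀, card_dual, hwi])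
            rw [this]; exact Subgroup.mem_top _
          rw [← (mem_fixTw N').1 h6, ← e, tw_tw, Subgroup.coe_inv]
          exact ((congrArg (tw (χ : K → ℂ)) (mul_inv_cancel (lam : K →* ℂˣ))).trans (tw_one _)).symm
        rcases classInner_eq_zero_constituent
          (isCharacter_restrict N' (isCharacter_of_isIrr χ.2)) hθ₀N h0 hη with h7 | h7
        · exact h7
        · exact absurd h7 hηne
    have h1 := congrFun hF 1
    rw [OddOrderChar.indFun_one, hwi, he, Finset.sum_apply,
      Finset.sum_eq_single (⟨θ₀, hθ₀⟩ : Cfsg.IrrCharacter K) (fun χ _ hne => by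
        rw [Pi.smul_apply, hcoef, if_neg fun e => hne (Subtype.ext e), zero_smul])
        (fun h0 => absurd (Finset.mem_univ _) h0),
      Pi.smul_apply, hcoef, if_pos rfl, smul_eq_mul] at h1
    change (w : ℂ) * e = m * θ₀ 1 at h1
    rw [hθ₀b] at h1
    exact_mod_cast h1
  have hwe2 : w * e ^ 2 ≤ b ^ 2 := by
    refine Nat.le_of_mul_le_mul_left ?_ (zero_lt_one.trans hw1)
    calc w * (w * e ^ 2) = (w * e) ^ 2 := by ring
      _ = m ^ 2 * b ^ 2 := by rw [hwe, mul_pow]
      _ ≤ w * b ^ 2 := Nat.mul_le_mul_right _ hmw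
  by_cases hLex : ∃ φ : L → ℂ, Cfsg.IsIrrCharacter L φ ∧ φ 1 = b
  swap
  · refine ⟨L, ?_, h.pred_subgroup L hLex⟩
    rw [hL]
    exact le_trans (Nat.le_mul_of_pos_right _ (pow_pos he0 2)) hwe2
  obtain ⟨φ, hφ, hφb⟩ := hLex
  obtain ⟨χ, hχ, hres, hχb⟩ := exists_ext_max h L hφ hφb
  set ξ : K → ℂ := fun k => χ k with hξ
  have hξc : Cfsg.IsCharacter K ξ := isCharacter_restrict K (isCharacter_of_isIrr hχ)
  have hNL : N ≤ L := hKL ▸ inf_le_right
  set N'' := N.subgroupOf L
  haveI : N''.Normal := Subgroup.normal_subgroupOf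
  haveI := Fintype.ofFinite N''
  haveI : IsMulCommutative (L ⧸ N'') := ⟨⟨fun x y => by
    induction x using QuotientGroup.induction_on with | _ x =>
    induction y using QuotientGroup.induction_on with | _ y =>
    rw [← QuotientGroup.mk_mul, ← QuotientGroup.mk_mul, QuotientGroup.eq, Subgroup.mem_subgroupOf]
    have hc : ⁅(y : G)⁻¹, (x : G)⁻¹⁆ ∈ N :=
      hLc (Subgroup.commutator_mem_commutator (inv_mem y.2) (inv_mem x.2))
    rw [commutatorElement_def] at hc
    simpa [mul_assoc] using hc⟩⟩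
  have hNLi : N''.index = f := by
    have h1 := subgroupOf_card_index hNL
    have h2 := subgroupOf_card_index hNK
    rw [← hN', hwi] at h2
    rw [← h2, hL] at h1
    exact Nat.eq_of_mul_eq_mul_right (zero_lt_one.trans hw1) (h1.trans (mul_comm _ _))
  set n₀ := Nat.card (fixTw N'' φ) with hn₀
  have hn₀f : n₀ ∣ f := hNLi ▸ card_fixTw_dvd N'' φ
  have hn₀e : Cfsg.classInner (fun n : N' => ξ n) (fun n : N' => ξ n) = n₀ := by
    rw [hn₀, ← classInner_restrict_self N'' hφ, hξ, classInner_subgroupOf hNK χ χ, ← hres,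
      classInner_subgroupOf hNL χ χ]
  have hn₀r : ¬ r ∣ n₀ := fun hd => hrf (hd.trans hn₀f)
  -- a constituent with irreducible restriction
  obtain ⟨θ, hθ, hθne, hθfix⟩ : ∃ θ : K → ℂ, Cfsg.IsIrrCharacter K θ ∧
      Cfsg.classInner ξ θ ≠ 0 ∧ fixTw N' θ = ⊥ := by
    by_contra hno
    push Not at hno
    apply hn₀r
    choose c hc using fun θ : Cfsg.IrrCharacter K => classInner_character_irr hξc θ.2
    have hk : ∀ θ : Cfsg.IrrCharacter K, ∃ k : ℕ,
        (c θ : ℂ) * Cfsg.classInner (fun n : N' => (θ : K → ℂ) n) (fun n : N' => ξ n) =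
          ((r * k : ℕ) : ℂ) := fun θ => by
      by_cases h0 : c θ = 0
      · exact ⟨0, by simp [h0]⟩
      obtain ⟨k, hk⟩ := card_fixTw_dvd_classInner N' θ.2 hξc
      obtain ⟨j, hj⟩ := hfixr _ (hno _ θ.2 (by rw [hc]; exact_mod_cast h0))
      exact ⟨c θ * j * k, by rw [hk, hj]; push_cast; ring⟩
    choose k hk using hk
    refine ⟨∑ θ, k θ, Nat.cast_injective (R := ℂ) ?_⟩
    rw [← hn₀e, Finset.mul_sum, Nat.cast_sum, ← Finset.sum_congr rfl fun θ _ => hk θ]
    have hx : (fun n : N' => ξ n) =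
        ∑ θ : Cfsg.IrrCharacter K, (c θ : ℂ) • (fun n : N' => (θ : K → ℂ) n) := by
      funext n
      have := congrFun (character_expansion hξc) (n : K)
      rw [this]
      simp [Finset.sum_apply, hc]
    conv_lhs => arg 1; rw [hx]
    rw [classInner_sum_left]
    exact Finset.sum_congr rfl fun θ _ => classInner_smul_left _ _ _
  -- an element of the dual moved by everything outside `K`
  obtain ⟨lam, hlam⟩ := exists_regular_tw N K hlt hfree hθ hθfix
  obtain ⟨d, hd0, hd⟩ := exists_degree_pos hθ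
  obtain ⟨hirr, hle⟩ := hind θ lam hθ hlam d hd
  set χ' := Cfsg.indFun K (tw θ lam.1) with hχ'
  have hover : Cfsg.classInner (fun x : L => χ' x) φ ≠ 0 := by
    obtain ⟨k, hk⟩ := classInner_character_irr hξc hθ
    have hθξ : Cfsg.classInner (fun n : N' => θ n) (fun n : N' => ξ n) ≠ 0 := fun h0 => by
      rcases classInner_eq_zero_constituent (isCharacter_restrict N' (isCharacter_of_isIrr hθ))
        (isCharacter_restrict N' hξc) h0
        (χ := fun n : N' => θ n) (isIrr_of_classInner_self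
          (isCharacter_restrict N' (isCharacter_of_isIrr hθ))
          (by rw [classInner_restrict_self N' hθ, hθfix, Subgroup.card_bot, Nat.cast_one])) with h1 | h1
      · rw [classInner_restrict_self N' hθ, hθfix, Subgroup.card_bot, Nat.cast_one] at h1
        exact one_ne_zero h1
      · rw [← sum_classInner_tw N' ξ θ] at h1
        choose c hc using fun mu : dual N' =>
          classInner_character_irr (isCharacter_tw hξc (mu : K →* ℂˣ)) hθ
        rw [Finset.sum_congr rfl fun mu _ => hc mu, ← Nat.cast_sum, Nat.cast_eq_zero] at h1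
        have h2 := hc 1
        rw [Subgroup.coe_one, tw_one, Finset.sum_eq_zero_iff.1 h1 1 (Finset.mem_univ _),
          Nat.cast_zero] at h2
        exact hθne h2
    rw [← hres]
    -- only the elements of `N` contribute
    have hsum : ∑ x : L, χ' x * conj (χ x) = ∑ n : N, χ' n * conj (χ n) := by
      rw [← Finset.sum_subtype (Finset.univ.filter (· ∈ L)) (by simp) (fun x => χ' x * conj (χ x)),
        ← Finset.sum_subtype (Finset.univ.filter (· ∈ N)) (by simp) (fun x => χ' x * conj (χ x))]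
      refine (Finset.sum_subset (fun x hx => ?_) fun x hx hx' => ?_).symm
      · simp only [Finset.mem_filter, Finset.mem_univ, true_and] at hx ⊢
        exact hNL hx
      · simp only [Finset.mem_filter, Finset.mem_univ, true_and] at hx hx'
        rw [hχ', indFun_normal_eq_zero K _ fun hxK => hx' (hKL ▸ ⟨hxK, hx⟩), zero_mul]
    intro h0
    simp only [Cfsg.classInner, mul_eq_zero, inv_eq_zero, Nat.cast_eq_zero,
      Nat.card_pos.ne', false_or] at h0
    rw [hsum] at h0
    have h1 : Cfsg.classInner (fun n : N' => χ' (n : K)) (fun n : N' => χ (n : K)) = 0 := by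
      rw [classInner_subgroupOf hNK χ' χ, Cfsg.classInner, h0, mul_zero]
    have h2 : (fun n : N' => χ' (n : K)) =
        (Nat.card K : ℂ)⁻¹ • ∑ g : G, (fun n : N' => conjBy K θ g n) := by
      funext n
      rw [hχ', indFun_normal_apply, Pi.smul_apply, Finset.sum_apply, smul_eq_mul]
      congr 1
      refine Finset.sum_congr rfl fun g _ => ?_
      rw [hcj]
      have : ((cj g lam).1 : K →* ℂˣ) (n : K) = 1 := (cj g lam).2 _ n.2
      simp [tw, this]
    rw [h2, classInner_smul_left, classInner_sum_left] at h1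
    have h3 : ∀ g : G, Cfsg.classInner (fun n : N' => conjBy K θ g n) (fun n : N' => χ (n : K)) =
        Cfsg.classInner (fun n : N' => θ n) (fun n : N' => ξ n) := by
      intro g
      rw [← sum_classInner_tw N' (conjBy K θ g) ξ, ← sum_classInner_tw N' θ ξ]
      refine Fintype.sum_bijective (cj g⁻¹) ?_ _ _ fun mu => ?_
      · have hcc : ∀ g mu, cj g (cj g⁻¹ mu) = mu := fun g mu => Subtype.ext (MonoidHom.ext fun x =>
          congrArg mu.1 (Subtype.ext (by simp)))
        exact ⟨fun a c e => by rw [← hcc g a, e, hcc],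
          fun mu => ⟨cj g mu, by simpa using hcc g⁻¹ mu⟩⟩
      · have hmu' : cj g (cj g⁻¹ mu) = mu := Subtype.ext (MonoidHom.ext fun x =>
          congrArg mu.1 (Subtype.ext (by simp)))
        conv_lhs => rw [← hmu', ← hcj]
        exact (congrArg (Cfsg.classInner _) (CharactersDeep.Clifford.conjBy_restrict K
          (isClassFunction_of_isIrr hχ) g).symm).trans
          (CharactersDeep.Clifford.classInner_conjBy K _ ξ g)
    rw [Finset.sum_congr rfl fun g _ => h3 g, Finset.sum_const, Finset.card_univ] at h1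
    simp [hθξ, Fintype.card_ne_zero] at h1
  have hb' := (ext_max h L hφ hφb hirr hover).2
  rw [hχ', OddOrderChar.indFun_one, show tw θ lam.1 1 = θ 1 by simp [tw], hd] at hb'
  have hbf : f * d = b := by exact_mod_cast hb'
  have hfe : f ≤ e := Nat.le_of_dvd he0 (hcop.symm.dvd_of_dvd_mul_left
    ⟨m * d, by rw [hwe, ← hbf]; ring⟩)
  refine ⟨N, ?_, hNlt⟩
  have h2 := subgroupOf_card_index hNK
  rw [← hN', hwi] at h2
  rw [← h2]
  calc w * f ≤ w * e ^ 2 := Nat.mul_le_mul_left w (hfe.trans (Nat.le_self_pow two_ne_zero e))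
    _ ≤ b ^ 2 := hwe2

/-- The data of a Frobenius quotient with elementary abelian kernel. -/
structure FrobData (N K L : Subgroup G) [K.Normal] (r : ℕ) : Prop where
  prime : r.Prime
  le : N ≤ K
  inf_eq : K ⊓ L = N
  exp : ∀ k ∈ K, k ^ r ∈ N
  commK : ⁅K, K⁆ ≤ N
  commL : ⁅L, L⁆ ≤ N
  commG : commutator G ≤ K
  dvd : r ∣ N.relIndex K
  indexL : L.index = N.relIndex K
  not_dvd : ¬ r ∣ K.index
  coprime : (N.relIndex K).Coprime K.index
  pPow : ∃ j, N.relIndex K = r ^ j
  lt : K.index < N.relIndex K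
  ne_top : K ≠ ⊤
  min : ∀ M : Subgroup G, M.Normal → N ≤ M → M ≤ K → M = N ∨ M = K
  free : ∀ lam : K →* ℂˣ, (∀ n : K, (n : G) ∈ N → lam n = 1) → ∀ g, g ∉ K →
    lam.comp (MulAut.conjNormal (H := K) g).toMonoidHom = lam → lam = 1

end CfsgLib.IsaacsPassman
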