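import Cfsg.Agent.IsaacsPassman.Basic
import Cfsg.Agent.DegreeBound.PSolvable
import Cfsg.Agent.GLFourTwo.SubgroupsSmall

/-!
# The step for a quotient with non-abelian minimal normal subgroup
-/

set_option autoImplicit false
set_option linter.unusedSectionVars false
set_option linter.style.haveILetI false

namespace CfsgLib.IsaacsPassman

open CfsgLib.Characters CfsgLib.OddOrderChar
open scoped ComplexConjugate commutatorElement

universe u

variable {G : Type u} [Group G] [Fintype G] {b : ℕ}

/-- A group with all degrees at most `b` has a nontrivial class of length at most `b ^ 2`. -/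
theorem exists_small_class {Q : Type u} [Group Q] [Fintype Q] (h : DegLe b Q) [Nontrivial Q] :
    ∃ x : Q, x ≠ 1 ∧ (Subgroup.centralizer ({x} : Set Q)).index ≤ b ^ 2 := by
  classical
  by_contra hno
  push Not at hno
  choose d hd0 hd using fun χ : Cfsg.IrrCharacter Q => exists_degree_pos χ.2
  set k := Fintype.card (Cfsg.IrrCharacter Q)
  set c : Q → ℕ := fun g => Nat.card (Subgroup.centralizer ({g} : Set Q))
  set n := Nat.card Q with hn
  have hrow : ∀ χ : Cfsg.IrrCharacter Q,
      ∑ g : Q, Complex.normSq ((χ : Q → ℂ) g) = (n : ℝ) := fun χ => by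
    have h1 := classInner_isIrr_self χ.2
    rw [Cfsg.classInner, inv_mul_eq_one₀ natCard_ne_zero] at h1
    simp only [Complex.mul_conj] at h1
    rw [← Complex.ofReal_sum, ← Complex.ofReal_natCast, Complex.ofReal_inj] at h1
    exact h1.symm
  have hcount : ∑ g : Q, c g = k * n := by
    have h1 : ∑ g : Q, (c g : ℝ) = (k : ℝ) * n := by
      rw [Finset.sum_congr rfl fun g _ => (DegreeBound.sum_normSq_eq_card_centralizer g).symm,
        Finset.sum_comm, Finset.sum_congr rfl fun χ _ => hrow χ]
      simp [k]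
    exact_mod_cast h1
  have hsq : ∑ χ, d χ ^ 2 = n := by
    have h1 := sum_degree_sq (G := Q)
    simp only [hd] at h1
    exact_mod_cast h1
  set one' : Cfsg.IrrCharacter Q := ⟨fun _ => 1, isIrr_one⟩
  have hd1 : d one' = 1 := by
    have h1 := hd one'
    simp only [one'] at h1
    exact_mod_cast h1.symm
  have hb2 : ∀ χ, d χ ^ 2 ≤ b ^ 2 := fun χ => Nat.pow_le_pow_left (h _ _ χ.2 (hd χ)) 2
  have hupper : n + b ^ 2 ≤ 1 + k * b ^ 2 := by
    have h1 : ∑ χ ∈ Finset.univ.erase one', d χ ^ 2 ≤ (k - 1) * b ^ 2 := by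
      refine (Finset.sum_le_card_nsmul _ _ _ fun χ _ => hb2 χ).trans_eq ?_
      rw [Finset.card_erase_of_mem (Finset.mem_univ _), Finset.card_univ, smul_eq_mul]
    rw [← Finset.add_sum_erase _ _ (Finset.mem_univ one'), hd1, one_pow] at hsq
    have hk : 0 < k := Fintype.card_pos_iff.2 ⟨one'⟩
    obtain ⟨j, hj⟩ := Nat.exists_eq_succ_of_ne_zero hk.ne'
    rw [hj] at h1 ⊢
    simp only [Nat.succ_sub_one, Nat.succ_mul] at h1 ⊢
    omega
  have hlt : ∀ g, g ≠ 1 → c g * b ^ 2 + 1 ≤ n := fun g hg => by
    have h1 := hno g hg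
    have h2 := (Subgroup.centralizer ({g} : Set Q)).index_mul_card
    have h3 : c g * b ^ 2 < c g * (Subgroup.centralizer ({g} : Set Q)).index :=
      (Nat.mul_lt_mul_left Nat.card_pos).2 h1
    rw [mul_comm] at h2
    change c g * _ = n at h2
    omega
  have hc1 : c 1 = n := by
    simp only [c, hn]
    rw [show Subgroup.centralizer ({(1 : Q)} : Set Q) = ⊤ from
      eq_top_iff.2 fun x _ => Subgroup.mem_centralizer_singleton_iff.2 (by simp), Subgroup.card_top]
  have h1 : ∑ g ∈ Finset.univ.erase (1 : Q), (c g * b ^ 2 + 1) ≤ (n - 1) * n := by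
    refine (Finset.sum_le_card_nsmul _ _ _ fun g hg => hlt g (Finset.ne_of_mem_erase hg)).trans_eq ?_
    rw [Finset.card_erase_of_mem (Finset.mem_univ _), Finset.card_univ, smul_eq_mul, hn,
      Nat.card_eq_fintype_card]
  rw [Finset.sum_add_distrib, ← Finset.sum_mul, Finset.sum_const, smul_eq_mul, mul_one,
    Finset.card_erase_of_mem (Finset.mem_univ _), Finset.card_univ, ← Nat.card_eq_fintype_card,
    ← hn] at h1
  rw [← Finset.add_sum_erase _ _ (Finset.mem_univ (1 : Q)), hc1] at hcount
  have hn2 : 2 ≤ n := Finite.one_lt_card_iff_nontrivial.2 inferInstance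
  obtain ⟨j, hj⟩ := Nat.exists_eq_succ_of_ne_zero (show n ≠ 0 by omega)
  rw [hj] at h1 hcount hupper
  simp only [Nat.succ_sub_one] at h1
  nlinarith

/-- The step: either a subgroup of small index or a normal subgroup with small degrees. -/
theorem nonabelian_step (h : DegLe b G) (N : Subgroup G) [N.Normal]
    (hne : commutator (G ⧸ N) ≠ ⊥)
    (hmin : ∀ M : Subgroup (G ⧸ N), M.Normal → M ≠ ⊥ → commutator (G ⧸ N) ≤ M)
    (hna : ¬ IsMulCommutative (commutator (G ⧸ N))) :
    (∃ H : Subgroup G, H.index ≤ b ^ 2 ∧ DegLe (b - 1) H) ∨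
      (5 ≤ b ∧ ∃ H : Subgroup G, H.index ≤ b ^ 4 ∧ DegLe (b / 2) H) := by
  classical
  haveI := Fintype.ofFinite (G ⧸ N)
  haveI := Fintype.ofFinite N
  set W := commutator (G ⧸ N)
  haveI : Nontrivial (G ⧸ N) := by
    by_contra hn
    rw [not_nontrivial_iff_subsingleton] at hn
    exact hne (Subsingleton.elim _ _)
  have hQ : DegLe b (G ⧸ N) := fun χ d hχ hd =>
    h (fun g => χ (QuotientGroup.mk' N g)) d
      (isIrr_comp (QuotientGroup.mk' N) (QuotientGroup.mk'_surjective N) hχ) (by simpa using hd)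
  have hCW : Subgroup.centralizer (W : Set (G ⧸ N)) = ⊥ := by
    by_contra hne'
    have hle := hmin _ inferInstance hne'
    exact hna ⟨⟨fun a c => Subtype.ext (Subgroup.mem_centralizer_iff.1 (hle c.2) _ a.2)⟩⟩
  obtain ⟨x, hx1, hx⟩ := exists_small_class hQ
  set C := Subgroup.centralizer ({x} : Set (G ⧸ N))
  have hcore : C.normalCore = ⊥ := by
    by_contra hne'
    have hle := (hmin _ inferInstance hne').trans C.normalCore_le
    refine hx1 ((Subgroup.eq_bot_iff_forall _).1 hCW x (Subgroup.mem_centralizer_iff.2 fun w hw => ?_))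
    exact Subgroup.mem_centralizer_singleton_iff.1 (hle hw)
  set H : Subgroup G := C.comap (QuotientGroup.mk' N)
  have hHi : H.index = C.index :=
    Subgroup.index_comap_of_surjective _ (QuotientGroup.mk'_surjective N)
  haveI := Fintype.ofFinite H
  by_cases hHex : ∃ θ : H → ℂ, Cfsg.IsIrrCharacter H θ ∧ θ 1 = b
  swap
  · exact Or.inl ⟨H, hHi ▸ hx, h.pred_subgroup H hHex⟩
  right
  obtain ⟨θ, hθ, hθb⟩ := hHex
  obtain ⟨χ, hχ, hres, hχb⟩ := exists_ext_max h H hθ hθb
  have hb0 : b ≠ 0 := fun e => irr_one_ne_zero hθ (by simp [hθb, e])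
  have hNH : N ≤ H := fun n hn => by
    show QuotientGroup.mk' N n ∈ C
    rw [QuotientGroup.mk'_apply, (QuotientGroup.eq_one_iff n).2 hn]
    exact one_mem C
  -- `θ` vanishes outside `N`
  have hvan : ∀ z : H, (z : G) ∉ N → θ z = 0 := by
    intro z hz
    by_contra hz0
    have hind : Cfsg.indFun H θ z = (H.index : ℂ) * θ z := by
      have hc := OddOrderChar.isCharacter_indFun H (isCharacter_of_isIrr hθ)
      have hexp := character_expansion hc
      have hterm : ∀ ψ : Cfsg.IrrCharacter G, Cfsg.classInner (Cfsg.indFun H θ) (ψ : G → ℂ) *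
          (ψ : G → ℂ) z * b = Cfsg.classInner (Cfsg.indFun H θ) (ψ : G → ℂ) * (ψ : G → ℂ) 1 * θ z := by
        intro ψ
        by_cases h0 : Cfsg.classInner (Cfsg.indFun H θ) (ψ : G → ℂ) = 0
        · rw [h0]; ring
        · rw [classInner_indFun_left H θ (isClassFunction_of_isIrr ψ.2), classInner_conj_symm] at h0
          obtain ⟨e1, e2⟩ := ext_max h H hθ hθb ψ.2 fun e => h0 (by rw [e, map_zero])
          rw [e2, ← congrFun e1 z]
          ring
      have h1 := congrFun hexp (z : G)
      have h2 := congrFun hexp 1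
      simp only [Finset.sum_apply, Pi.smul_apply, smul_eq_mul] at h1 h2
      rw [OddOrderChar.indFun_one, hθb] at h2
      refine mul_right_cancel₀ (Nat.cast_ne_zero.2 hb0) ?_
      rw [h1, Finset.sum_mul, Finset.sum_congr rfl fun ψ _ => hterm ψ, ← Finset.sum_mul, ← h2]
      ring
    have hall : ∀ g : G, g⁻¹ * (z : G) * g ∈ H := by
      by_contra hex
      push Not at hex
      obtain ⟨g, hg⟩ := hex
      have hlt : (Finset.univ.filter fun y : G => y⁻¹ * (z : G) * y ∈ H).card < Nat.card G := by
        rw [Nat.card_eq_fintype_card, ← Finset.card_univ]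
        exact Finset.card_lt_card (Finset.filter_ssubset.mpr ⟨g, Finset.mem_univ _, hg⟩)
      refine hlt.ne (Nat.cast_injective (R := ℂ) (mul_right_cancel₀ hz0 ?_))
      have h1 : Cfsg.indFun H θ z = (Nat.card H : ℂ)⁻¹ *
          ∑ y : G, if y⁻¹ * (z : G) * y ∈ H then θ z else 0 := by
        unfold Cfsg.indFun
        congr 1
        refine Finset.sum_congr rfl fun y _ => ?_
        split_ifs with hy
        · rw [OddOrderChar.extendByZero_of_mem H θ hy, ← hres]
          show χ (y⁻¹ * z * y) = χ z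
          simpa using isClassFunction_of_isIrr hχ (z : G) y⁻¹
        · exact OddOrderChar.extendByZero_of_notMem H θ hy
      rw [hind, Finset.sum_ite, Finset.sum_const, Finset.sum_const_zero, add_zero, nsmul_eq_mul,
        eq_inv_mul_iff_mul_eq₀ (subgroup_card_ne_zero H), ← mul_assoc] at h1
      rw [← h1, ← H.index_mul_card]
      push_cast
      ring
    have hzc : QuotientGroup.mk' N (z : G) ∈ C.normalCore := fun y => by
      obtain ⟨g, rfl⟩ := QuotientGroup.mk'_surjective N y
      have := hall g⁻¹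
      rw [inv_inv] at this
      simpa [H] using this
    rw [hcore, Subgroup.mem_bot, QuotientGroup.mk'_apply, QuotientGroup.eq_one_iff] at hzc
    exact hz hzc
  -- so the quotient is small
  have hCle : Nat.card H ≤ Nat.card N * b ^ 2 := by
    obtain ⟨m, ρ, hρ, hρc⟩ := hθ
    have hm : Module.finrank ℂ (Fin m → ℂ) = b := by
      apply Nat.cast_injective (R := ℂ)
      rw [← hθb, ← hρc, Representation.char_one]
    have hnorm : ∀ z : H, Complex.normSq (θ z) ≤ ((b ^ 2 : ℕ) : ℝ) := fun z => by
      rw [Complex.normSq_eq_norm_sq, ← hρc, Nat.cast_pow, ← hm]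
      exact pow_le_pow_left₀ (norm_nonneg _) (norm_char_le ρ z) 2
    have h1 := classInner_isIrr_self (show Cfsg.IsIrrCharacter H θ from ⟨m, ρ, hρ, hρc⟩)
    rw [Cfsg.classInner, inv_mul_eq_one₀ (subgroup_card_ne_zero H)] at h1
    simp only [Complex.mul_conj] at h1
    rw [← Complex.ofReal_sum, ← Complex.ofReal_natCast, Complex.ofReal_inj] at h1
    have h2 : (Nat.card H : ℝ) ≤ ((Nat.card N * b ^ 2 : ℕ) : ℝ) := by
      rw [h1, ← Finset.sum_subset (s₁ := Finset.univ.filter fun z : H => (z : G) ∈ N)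
        (Finset.subset_univ _) fun z _ hz => by
          simp only [Finset.mem_filter, Finset.mem_univ, true_and] at hz
          rw [hvan z hz, map_zero]]
      refine (Finset.sum_le_card_nsmul _ _ _ fun z _ => hnorm z).trans_eq ?_
      rw [nsmul_eq_mul, Nat.cast_mul, ← Fintype.card_subtype, ← Nat.card_eq_fintype_card]
      congr 2
      exact Nat.card_congr (Subgroup.subgroupOfEquivOfLe hNH).toEquiv
    exact_mod_cast h2
  have hNi : N.index ≤ b ^ 4 := by
    refine Nat.le_of_mul_le_mul_right ?_ (Nat.card_pos (α := N))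
    rw [N.index_mul_card, ← H.index_mul_card]
    calc H.index * Nat.card H ≤ b ^ 2 * (Nat.card N * b ^ 2) :=
          Nat.mul_le_mul (hHi ▸ hx) hCle
      _ = b ^ 4 * Nat.card N := by ring
  -- the bound is at least five
  have hb5 : 5 ≤ b := by
    by_contra hb5
    have hprimes : ∀ p : ℕ, p.Prime → p ∣ Nat.card W → p = 2 ∨ p = 3 := by
      intro p hp hpW
      by_contra hp23
      push Not at hp23
      haveI := Fact.mk hp
      have hlt : DegreeBound.AllLt p (G ⧸ N) := fun ψ => by
        obtain ⟨e, -, he⟩ := exists_degree_pos ψ.2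
        rw [DegreeGraph.charDegree_eq he]
        have := hQ _ e ψ.2 he
        have : p ≠ 4 := fun e => by rw [e] at hp; norm_num at hp
        have := hp.two_le
        omega
      obtain ⟨P⟩ : Nonempty (Sylow p (G ⧸ N)) := inferInstance
      obtain ⟨hPn, hPc⟩ := DegreeBound.normal_abelian_sylow hlt P
      have hPne : (P : Subgroup (G ⧸ N)) ≠ ⊥ := fun e => by
        have h1 := P.dvd_card_of_dvd_card (hpW.trans (Subgroup.card_subgroup_dvd_card W))
        rw [e, Subgroup.card_bot] at h1
        exact hp.not_dvd_one h1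
      have hle := hmin _ hPn hPne
      exact hna ⟨⟨fun a c => Subtype.ext (hPc _ (hle a.2) _ (hle c.2))⟩⟩
    obtain ⟨a, c, hac⟩ : ∃ a c, Nat.card W ∣ 2 ^ a * 3 ^ c := by
      refine ⟨Nat.card W, Nat.card W, (Nat.dvd_iff_prime_pow_dvd_dvd _ _).2 fun p k hp hk => ?_⟩
      rcases Nat.eq_zero_or_pos k with rfl | hk0
      · simp
      have hkn : k ≤ Nat.card W :=
        (Nat.lt_pow_self hp.one_lt).le.trans (Nat.le_of_dvd Nat.card_pos hk)
      rcases hprimes p hp ((dvd_pow_self p hk0.ne').trans hk) with rfl | rfl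
      · exact (pow_dvd_pow 2 hkn).trans (dvd_mul_right _ _)
      · exact (pow_dvd_pow 3 hkn).trans (dvd_mul_left _ _)
    haveI := GLFourTwo.solvable_paqb 2 3 a c Nat.prime_two Nat.prime_three hac
    haveI : Nontrivial W := (Subgroup.nontrivial_iff_ne_bot W).2 hne
    refine hna ?_
    -- a solvable minimal normal subgroup is abelian
    have hperf : ⁅W, W⁆ = W := le_antisymm (Subgroup.commutator_le_self W)
      (hmin _ inferInstance fun e => hna ⟨⟨fun a c => Subtype.ext (commutatorElement_eq_one_iff_mul_comm.1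
        ((Subgroup.eq_bot_iff_forall _).1 e _ (Subgroup.commutator_mem_commutator a.2 c.2)))⟩⟩)
    exfalso
    refine (Group.IsSolvable.commutator_lt_top_of_nontrivial W).ne ?_
    apply Subgroup.map_injective W.subtype_injective
    rw [Subgroup.map_subtype_commutator, hperf, ← MonoidHom.range_eq_map, Subgroup.range_subtype]
  refine ⟨hb5, N, hNi, fun φ d hφ hd => ?_⟩
  obtain ⟨ξ, hξ, hne'⟩ := CharactersDeep.Clifford.exists_over N hφ
  obtain ⟨c, -, hc⟩ := exists_degree_pos hξ
  obtain ⟨d', k, hd', hck, -, -⟩ := DegreeGraph.exists_ratio N hξ hφ hne' hc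
  obtain rfl : d' = d := Nat.cast_injective (R := ℂ) (hd'.symm.trans hd)
  have hcb := h ξ c hξ hc
  rw [Nat.le_div_iff_mul_le two_pos]
  rcases lt_or_ge k 2 with hk | hk
  · have hk1 : k = 1 := by
      have : k ≠ 0 := fun e => irr_one_ne_zero hξ (by simp [hc, hck, e])
      omega
    have hres' : Cfsg.IsIrrCharacter N fun n : N => ξ n := by
      rw [CharactersDeep.Clifford.eq_of_constituent_of_degree_le
        (isCharacter_restrict N (isCharacter_of_isIrr hξ)) hφ hne' (a := d') (b := d')
        (by simpa [hk1, hck] using hc) hd le_rfl]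
      exact hφ
    obtain ⟨ψ, hψ⟩ := SameDegree.exists_nonlinear hne
    obtain ⟨e, he0, he⟩ := exists_degree_pos ψ.2
    have he1 : e ≠ 1 := fun e1 => hψ (by rw [he, e1, Nat.cast_one])
    have h2 := h _ (c * e) (CharactersDeep.Gallagher.isIrr_prodInfl N hξ hres' ψ.2)
      (by simp [CharactersDeep.Gallagher.prodInfl, hc, he])
    calc d' * 2 ≤ d' * e := Nat.mul_le_mul_left _ (by omega)
      _ = c * e := by rw [hck, hk1, mul_one]
      _ ≤ b := h2
  · calc d' * 2 ≤ d' * k := Nat.mul_le_mul_left _ hk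
      _ = c := hck.symm
      _ ≤ b := hcb

end CfsgLib.IsaacsPassman
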