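import Cfsg.Agent.IsaacsPassman.Central
import Cfsg.Agent.IsaacsPassman.Frob
import Cfsg.Agent.IsaacsPassman.Nonabelian

/-!
# A group with degrees at most `b` has an abelian subgroup of index at most `(b!) ^ 2`
-/

set_option autoImplicit false
set_option linter.unusedSectionVars false
set_option linter.style.haveILetI false

namespace CfsgLib.IsaacsPassman

open CfsgLib.Characters CfsgLib.OddOrderChar
open scoped commutatorElement

universe u

variable {G : Type u} [Group G] [Fintype G] {b : ℕ}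

theorem exists_frobData (N : Subgroup G) [N.Normal]
    (hne : commutator (G ⧸ N) ≠ ⊥)
    (hmin : ∀ M : Subgroup (G ⧸ N), M.Normal → M ≠ ⊥ → commutator (G ⧸ N) ≤ M)
    (hab : IsMulCommutative (commutator (G ⧸ N)))
    (hnc : ¬ commutator (G ⧸ N) ≤ Subgroup.center (G ⧸ N)) :
    ∃ (K L : Subgroup G) (_ : K.Normal) (r : ℕ), FrobData N K L r := by
  classical
  set W := commutator (G ⧸ N) with hW
  have hWc : ∀ a ∈ W, ∀ c ∈ W, a * c = c * a := fun a ha c hc =>
    congrArg Subtype.val (hab.is_comm.comm ⟨a, ha⟩ ⟨c, hc⟩)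
  have hcomm : ∀ x y : G ⧸ N, ⁅x, y⁆ ∈ W := fun x y =>
    Subgroup.commutator_mem_commutator (Subgroup.mem_top x) (Subgroup.mem_top y)
  have hconj : ∀ g x : G ⧸ N, g * x * g⁻¹ * x⁻¹ ∈ W := fun g x => by
    have := hcomm g x; rwa [commutatorElement_def] at this
  -- elements outside the centraliser act freely
  have hfpf : ∀ g : G ⧸ N, g ∉ Subgroup.centralizer (W : Set (G ⧸ N)) →
      ∀ v ∈ W, g * v = v * g → v = 1 := by
    intro g hg v hv hgv
    set D := W ⊓ Subgroup.centralizer ({g} : Set (G ⧸ N)) with hD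
    have hDn : D.Normal := ⟨fun x hx y => by
      have hx' : x * g = g * x := Subgroup.mem_centralizer_singleton_iff.1 hx.2
      refine ⟨(inferInstance : W.Normal).conj_mem x hx.1 y, Subgroup.mem_centralizer_singleton_iff.2 ?_⟩
      have hw : y⁻¹ * g * y * g⁻¹ ∈ W := by simpa using hconj y⁻¹ g
      have h1 := hWc _ hw x hx.1
      have h2 : x * (y⁻¹ * g * y) = (y⁻¹ * g * y) * x := by
        calc x * (y⁻¹ * g * y) = (x * (y⁻¹ * g * y * g⁻¹)) * g := by group
          _ = y⁻¹ * g * y * g⁻¹ * (x * g) := by rw [← h1, mul_assoc]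
          _ = y⁻¹ * g * y * g⁻¹ * (g * x) := by rw [hx']
          _ = (y⁻¹ * g * y) * x := by group
      calc y * x * y⁻¹ * g = y * (x * (y⁻¹ * g * y)) * y⁻¹ := by group
        _ = y * ((y⁻¹ * g * y) * x) * y⁻¹ := by rw [h2]
        _ = g * (y * x * y⁻¹) := by group⟩
    by_contra hv1
    have hle := hmin D hDn fun e => hv1 ((Subgroup.eq_bot_iff_forall D).1 e v
      ⟨hv, Subgroup.mem_centralizer_singleton_iff.2 hgv.symm⟩)
    exact hg (Subgroup.mem_centralizer_iff.2 fun w hw =>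
      Subgroup.mem_centralizer_singleton_iff.1 (hle hw).2)
  obtain ⟨g₀, hg₀⟩ : ∃ g₀, g₀ ∉ Subgroup.centralizer (W : Set (G ⧸ N)) := by
    by_contra hno
    push Not at hno
    exact hnc fun w hw => Subgroup.mem_center_iff.2 fun g =>
      (Subgroup.mem_centralizer_iff.1 (hno g) w hw).symm
  set L := Subgroup.centralizer ({g₀} : Set (G ⧸ N)) with hL
  have hinf : W ⊓ L = ⊥ := (Subgroup.eq_bot_iff_forall _).2 fun v hv =>
    hfpf g₀ hg₀ v hv.1 (Subgroup.mem_centralizer_singleton_iff.1 hv.2).symm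
  -- the centraliser of `W` is `W`
  set CW := Subgroup.centralizer (W : Set (G ⧸ N))
  have hD : CW ⊓ L = ⊥ := by
    have hDn : (CW ⊓ L).Normal := ⟨fun z hz y => by
      refine ⟨(inferInstance : CW.Normal).conj_mem z hz.1 y, Subgroup.mem_centralizer_singleton_iff.2 ?_⟩
      have hz' : z * g₀ = g₀ * z := Subgroup.mem_centralizer_singleton_iff.1 hz.2
      have hw : y⁻¹ * g₀ * y * g₀⁻¹ ∈ W := by simpa using hconj y⁻¹ g₀
      have h1 := Subgroup.mem_centralizer_iff.1 hz.1 _ hw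
      have h2 : z * (y⁻¹ * g₀ * y) = (y⁻¹ * g₀ * y) * z := by
        calc z * (y⁻¹ * g₀ * y) = (z * (y⁻¹ * g₀ * y * g₀⁻¹)) * g₀ := by group
          _ = y⁻¹ * g₀ * y * g₀⁻¹ * (z * g₀) := by rw [← h1, mul_assoc]
          _ = y⁻¹ * g₀ * y * g₀⁻¹ * (g₀ * z) := by rw [hz']
          _ = (y⁻¹ * g₀ * y) * z := by group
      calc y * z * y⁻¹ * g₀ = y * (z * (y⁻¹ * g₀ * y)) * y⁻¹ := by group
        _ = y * ((y⁻¹ * g₀ * y) * z) * y⁻¹ := by rw [h2]
        _ = g₀ * (y * z * y⁻¹) := by group⟩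
    by_contra hne'
    refine hne (eq_bot_iff.2 (hinf ▸ le_inf le_rfl ((hmin _ hDn hne').trans inf_le_right)))
  have hadj : ∀ g : G ⧸ N, ∃ v ∈ W, v * g ∈ L := by
    intro g
    have hinj : Function.Injective fun v : W => (⟨g₀ * v * g₀⁻¹ * (v : G ⧸ N)⁻¹, hconj _ _⟩ : W) := by
      intro a c e
      have e' : g₀ * a * g₀⁻¹ * (a : G ⧸ N)⁻¹ = g₀ * c * g₀⁻¹ * (c : G ⧸ N)⁻¹ := congrArg Subtype.val e
      have hac : (c : G ⧸ N)⁻¹ * a ∈ W := mul_mem (inv_mem c.2) a.2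
      have h4 : g₀ * ((c : G ⧸ N)⁻¹ * a) * g₀⁻¹ = (c : G ⧸ N)⁻¹ * a := by
        calc g₀ * ((c : G ⧸ N)⁻¹ * a) * g₀⁻¹
            = (g₀ * c * g₀⁻¹ * (c : G ⧸ N)⁻¹ * c)⁻¹ * (g₀ * a * g₀⁻¹ * (a : G ⧸ N)⁻¹ * a) := by group
          _ = (g₀ * c * g₀⁻¹ * (c : G ⧸ N)⁻¹ * c)⁻¹ * (g₀ * c * g₀⁻¹ * (c : G ⧸ N)⁻¹ * a) := by rw [e']
          _ = (c : G ⧸ N)⁻¹ * a := by group
      have h5 := hfpf g₀ hg₀ _ hac (mul_inv_eq_iff_eq_mul.1 h4)
      exact Subtype.ext (inv_mul_eq_one.1 h5).symm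
    obtain ⟨v, hv⟩ := Finite.surjective_of_injective hinj ⟨g * g₀ * g⁻¹ * g₀⁻¹, hconj g g₀⟩
    have hv' : g₀ * v * g₀⁻¹ * (v : G ⧸ N)⁻¹ = g * g₀ * g⁻¹ * g₀⁻¹ := congrArg Subtype.val hv
    have h6 : (v : G ⧸ N) * (g₀ * (v : G ⧸ N)⁻¹ * g₀⁻¹) = (g₀ * v * g₀⁻¹ * (v : G ⧸ N)⁻¹)⁻¹ := by group
    refine ⟨v, v.2, Subgroup.mem_centralizer_singleton_iff.2 ?_⟩
    have hmem : g₀ * (v : G ⧸ N)⁻¹ * g₀⁻¹ ∈ W :=
      (inferInstance : W.Normal).conj_mem _ (inv_mem v.2) g₀
    calc (v : G ⧸ N) * g * g₀ = (v : G ⧸ N) * (g * g₀ * g⁻¹ * g₀⁻¹) * g₀ * g := by group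
      _ = (v : G ⧸ N) * (g₀ * v * g₀⁻¹ * (v : G ⧸ N)⁻¹) * g₀ * g := by rw [hv']
      _ = (g₀ * v * g₀⁻¹ * (v : G ⧸ N)⁻¹) * (v : G ⧸ N) * g₀ * g := by
          rw [hWc _ v.2 _ (hconj g₀ v)]
      _ = g₀ * ((v : G ⧸ N) * g) := by group
  have hCW' : CW ≤ W := fun z hz => by
    obtain ⟨v, hv, hvz⟩ := hadj z
    have hvC : v ∈ CW := Subgroup.mem_centralizer_iff.2 fun w hw => hWc w hw v hv
    have := (Subgroup.eq_bot_iff_forall _).1 hD _ ⟨mul_mem hvC hz, hvz⟩
    rw [mul_eq_one_iff_inv_eq] at this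
    exact this ▸ inv_mem hv
  have hfree' : ∀ g, g ∉ W → ∀ v ∈ W, g * v = v * g → v = 1 := fun g hg =>
    hfpf g fun hgC => hg (hCW' hgC)
  -- prime exponent
  haveI : Nontrivial W := (Subgroup.nontrivial_iff_ne_bot W).2 hne
  obtain ⟨r, hrp, hrW⟩ := Nat.exists_prime_and_dvd (Finite.one_lt_card_iff_nontrivial.2 ‹Nontrivial W›).ne'
  haveI := Fact.mk hrp
  let U : Subgroup (G ⧸ N) :=
    { carrier := {x | x ∈ W ∧ x ^ r = 1}
      one_mem' := ⟨one_mem _, one_pow r⟩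
      mul_mem' := fun {a c} ha hc => ⟨mul_mem ha.1 hc.1, by
        rw [Commute.mul_pow (hWc a ha.1 c hc.1), ha.2, hc.2, one_mul]⟩
      inv_mem' := fun {a} ha => ⟨inv_mem ha.1, by rw [inv_pow, ha.2, inv_one]⟩ }
  have hU : W ≤ U := by
    refine hmin U ⟨fun x hx y => ⟨(inferInstance : W.Normal).conj_mem x hx.1 y, by
      rw [← MulAut.conj_apply, ← map_pow, hx.2, map_one]⟩⟩ fun e => ?_
    obtain ⟨x, hx⟩ := exists_prime_orderOf_dvd_card' r hrW
    have hx1 := (Subgroup.eq_bot_iff_forall U).1 e (x : G ⧸ N) ⟨x.2, by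
      rw [← hx, ← Subgroup.coe_pow, pow_orderOf_eq_one, Subgroup.coe_one]⟩
    rw [show x = 1 from Subtype.ext hx1, orderOf_one] at hx
    exact hrp.ne_one hx.symm
  have hWp : IsPGroup r W := fun x => ⟨1, Subtype.ext (by simpa using (hU x.2).2)⟩
  -- indices
  have hdisj : ∀ v ∈ W, v ∈ L → v = 1 := fun v hv hvL =>
    (Subgroup.eq_bot_iff_forall _).1 hinf v ⟨hv, hvL⟩
  have hLW : L.index = Nat.card W := by
    rw [Subgroup.index_eq_card]
    refine (Nat.card_eq_of_bijective (fun v : W => (QuotientGroup.mk (v : G ⧸ N) : (G ⧸ N) ⧸ L))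
      ⟨fun a c e => ?_, fun q => ?_⟩).symm
    · exact Subtype.ext (inv_mul_eq_one.1
        (hdisj _ (mul_mem (inv_mem a.2) c.2) (QuotientGroup.eq.1 e)))
    · induction q using QuotientGroup.induction_on with | _ g =>
      obtain ⟨v, hv, hvg⟩ := hadj g
      refine ⟨⟨v, hv⟩⁻¹, QuotientGroup.eq.2 ?_⟩
      simpa using hvg
  have hWL : W.index = Nat.card L := by
    have h1 := L.index_mul_card
    rw [← W.index_mul_card, hLW, mul_comm W.index] at h1
    exact (Nat.eq_of_mul_eq_mul_left Nat.card_pos h1).symm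
  have hlt : W.index < Nat.card W := by
    rw [hWL]
    obtain ⟨w, hw⟩ := exists_ne (1 : W)
    let φ : L → {v : W // v ≠ 1} := fun l => ⟨⟨(l : G ⧸ N) * w * (l : G ⧸ N)⁻¹,
      (inferInstance : W.Normal).conj_mem _ w.2 _⟩, fun e => hw (Subtype.ext
        (conj_eq_one_iff.1 (congrArg Subtype.val e)))⟩
    have hinj : Function.Injective φ := by
      intro a c e
      have e' : (a : G ⧸ N) * w * (a : G ⧸ N)⁻¹ = c * w * (c : G ⧸ N)⁻¹ :=
        congrArg (fun v : {v : W // v ≠ 1} => ((v : W) : G ⧸ N)) e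
      by_contra hne'
      have hmem : (c : G ⧸ N)⁻¹ * a ∉ W := fun hm =>
        hne' (Subtype.ext (inv_mul_eq_one.1 (hdisj _ hm (mul_mem (inv_mem c.2) a.2))).symm)
      refine hw (Subtype.ext (hfree' _ hmem _ w.2 ?_))
      calc (c : G ⧸ N)⁻¹ * a * w = (c : G ⧸ N)⁻¹ * ((a : G ⧸ N) * w * (a : G ⧸ N)⁻¹) * a := by group
        _ = (c : G ⧸ N)⁻¹ * (c * w * (c : G ⧸ N)⁻¹) * a := by rw [e']
        _ = w * ((c : G ⧸ N)⁻¹ * a) := by group
    refine lt_of_le_of_lt (Nat.card_le_card_of_injective φ hinj) ?_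
    haveI := Fintype.ofFinite W
    rw [Nat.card_eq_fintype_card, Nat.card_eq_fintype_card]
    exact Fintype.card_subtype_lt (x := (1 : W)) (by simp)
  have hrf : ¬ r ∣ W.index := by
    rw [hWL]
    intro hd
    obtain ⟨l, hl⟩ := exists_prime_orderOf_dvd_card' r hd
    have hl1 : (l : G ⧸ N) ∉ W := fun hm => by
      rw [show l = 1 from Subtype.ext (hdisj _ hm l.2), orderOf_one] at hl
      exact hrp.ne_one hl.symm
    set P := Subgroup.zpowers (l : G ⧸ N) ⊔ W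
    have hPp : IsPGroup r P := by
      refine IsPGroup.to_sup_of_normal_right ?_ hWp
      refine IsPGroup.of_card (n := 1) ?_
      rw [Nat.card_zpowers, Subgroup.orderOf_coe, hl, pow_one]
    have hne' : W.subgroupOf P ≠ ⊥ := by
      rw [Ne, Subgroup.subgroupOf_eq_bot, disjoint_iff, inf_eq_left.2 le_sup_right]
      exact hne
    haveI := hPp.isNilpotent
    haveI : (W.subgroupOf P).Normal := Subgroup.normal_subgroupOf
    obtain ⟨z, hz, hz1⟩ := (Subgroup.ne_bot_iff_exists_ne_one.1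
      (Solvable.inf_center_ne_bot hne')).elim
        fun y hy => (⟨y.1, y.2, fun e => hy (Subtype.ext e)⟩ :
          ∃ z, z ∈ W.subgroupOf P ⊓ Subgroup.center P ∧ z ≠ 1)
    refine hz1 (Subtype.ext (hfree' _ hl1 _ (Subgroup.mem_subgroupOf.1 hz.1) ?_))
    exact congrArg Subtype.val (Subgroup.mem_center_iff.1 hz.2
      ⟨l, Subgroup.mem_sup_left (Subgroup.mem_zpowers _)⟩)
  -- pass to the group
  set f := QuotientGroup.mk' N with hfdef
  have hsurj := QuotientGroup.mk'_surjective N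
  set K : Subgroup G := W.comap f
  haveI : K.Normal := inferInstanceAs (W.comap f).Normal
  have hNK : N ≤ K := fun x hx => by
    show f x ∈ W
    rw [hfdef, QuotientGroup.mk'_apply, (QuotientGroup.eq_one_iff x).2 hx]
    exact one_mem W
  have hKi : K.index = W.index := Subgroup.index_comap_of_surjective _ hsurj
  have hrel : N.relIndex K = Nat.card W := by
    have h1 : N.relIndex K * K.index = N.index := Subgroup.relIndex_mul_index hNK
    rw [hKi, Subgroup.index_eq_card N, ← W.index_mul_card, mul_comm W.index] at h1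
    exact Nat.eq_of_mul_eq_mul_right (Nat.pos_of_ne_zero Subgroup.index_ne_zero_of_finite) h1
  have hKc : ⁅K, K⁆ ≤ N := Subgroup.commutator_le.2 fun a ha c hc => by
    rw [← QuotientGroup.eq_one_iff]
    show f ⁅a, c⁆ = 1
    rw [map_commutatorElement, commutatorElement_eq_one_iff_mul_comm]
    exact hWc _ ha _ hc
  have hKL : K ⊓ L.comap f = N := by
    refine le_antisymm (fun x hx => (QuotientGroup.eq_one_iff x).1 (hdisj _ hx.1 hx.2)) fun x hx => ?_
    refine ⟨hNK hx, ?_⟩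
    show f x ∈ L
    rw [hfdef, QuotientGroup.mk'_apply, (QuotientGroup.eq_one_iff x).2 hx]
    exact one_mem L
  have hKG : commutator G ≤ K := by
    rw [commutator_def]
    refine Subgroup.commutator_le.2 fun a _ c _ => ?_
    show f ⁅a, c⁆ ∈ W
    rw [map_commutatorElement]
    exact hcomm _ _
  refine ⟨K, L.comap f, inferInstance, r, hrp, hNK, hKL, ?_, hKc, ?_, hKG, ?_, ?_, ?_, ?_, ?_, ?_, ?_, ?_, ?_⟩
  · intro k hk
    rw [← QuotientGroup.eq_one_iff, QuotientGroup.mk_pow]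
    exact (hU hk).2
  · refine Subgroup.commutator_le.2 fun a ha c hc => ?_
    rw [← hKL]
    refine ⟨?_, ?_⟩
    · show f ⁅a, c⁆ ∈ W
      rw [map_commutatorElement]; exact hcomm _ _
    · show ⁅a, c⁆ ∈ L.comap f
      rw [commutatorElement_def]
      exact mul_mem (mul_mem (mul_mem ha hc) (inv_mem ha)) (inv_mem hc)
  · rw [hrel]; exact hrW
  · rw [Subgroup.index_comap_of_surjective _ hsurj, hLW, hrel]
  · rwa [hKi]
  · rw [hrel, hKi]
    obtain ⟨j, hj⟩ := IsPGroup.iff_card.1 hWp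
    rw [hj]
    exact Nat.Coprime.pow_left j (hrp.coprime_iff_not_dvd.2 hrf)
  · rw [hrel]; exact IsPGroup.iff_card.1 hWp
  · rwa [hrel, hKi]
  · intro e
    refine hg₀ (Subgroup.mem_centralizer_iff.2 fun v hv => ?_)
    obtain ⟨g, hg⟩ := hsurj g₀
    exact hWc v hv g₀ (hg ▸ (show g ∈ K from e ▸ Subgroup.mem_top g))
  · intro M hM hNM hMK
    haveI : (M.map f).Normal := hM.map f hsurj
    by_cases h0 : M.map f = ⊥
    · left
      refine le_antisymm (fun x hx => (QuotientGroup.eq_one_iff x).1 ?_) hNM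
      exact (Subgroup.eq_bot_iff_forall _).1 h0 _ (Subgroup.mem_map_of_mem f hx)
    · right
      refine le_antisymm hMK fun x hx => ?_
      obtain ⟨m, hm, hmx⟩ := hmin _ inferInstance h0 hx
      have : m⁻¹ * x ∈ N := QuotientGroup.eq.1 hmx
      simpa using mul_mem hm (hNM this)
  · intro lam hlam g hg hfix
    refine MonoidHom.ext fun k => ?_
    have hgW : f g ∉ W := hg
    have hinj : Function.Injective fun v : W => (⟨f g * v * (f g)⁻¹ * (v : G ⧸ N)⁻¹, hconj _ _⟩ : W) := by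
      intro a c e
      have e' : f g * a * (f g)⁻¹ * (a : G ⧸ N)⁻¹ = f g * c * (f g)⁻¹ * (c : G ⧸ N)⁻¹ :=
        congrArg Subtype.val e
      have h4 : f g * ((c : G ⧸ N)⁻¹ * a) * (f g)⁻¹ = (c : G ⧸ N)⁻¹ * a := by
        calc f g * ((c : G ⧸ N)⁻¹ * a) * (f g)⁻¹
            = (f g * c * (f g)⁻¹ * (c : G ⧸ N)⁻¹ * c)⁻¹ * (f g * a * (f g)⁻¹ * (a : G ⧸ N)⁻¹ * a) := by group
          _ = (f g * c * (f g)⁻¹ * (c : G ⧸ N)⁻¹ * c)⁻¹ * (f g * c * (f g)⁻¹ * (c : G ⧸ N)⁻¹ * a) := by rw [e']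
          _ = (c : G ⧸ N)⁻¹ * a := by group
      exact Subtype.ext (inv_mul_eq_one.1 (hfree' _ hgW _ (mul_mem (inv_mem c.2) a.2)
        (mul_inv_eq_iff_eq_mul.1 h4))).symm
    obtain ⟨v, hv⟩ := Finite.surjective_of_injective hinj ⟨f k, k.2⟩
    obtain ⟨x, hx⟩ := hsurj (v : G ⧸ N)
    have hxK : x ∈ K := by show f x ∈ W; rw [hx]; exact v.2
    set y : K := MulAut.conjNormal (H := K) g ⟨x, hxK⟩ * ⟨x, hxK⟩⁻¹
    have hy : lam y = 1 := by
      rw [map_mul, map_inv, mul_inv_eq_one]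
      exact DFunLike.congr_fun hfix ⟨x, hxK⟩
    have hyk : ((y⁻¹ * k : K) : G) ∈ N := by
      rw [← QuotientGroup.eq_one_iff]
      show f _ = 1
      simp only [y, Subgroup.coe_mul, Subgroup.coe_inv, MulAut.conjNormal_apply, map_mul, map_inv]
      rw [inv_mul_eq_one, hx]
      exact congrArg Subtype.val hv
    have h7 := hlam _ hyk
    rw [map_mul, map_inv, hy, inv_one, one_mul] at h7
    simpa using h7

theorem abelian_step (h : DegLe b G) (N : Subgroup G) [N.Normal]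
    (hne : commutator (G ⧸ N) ≠ ⊥)
    (hmin : ∀ M : Subgroup (G ⧸ N), M.Normal → M ≠ ⊥ → commutator (G ⧸ N) ≤ M)
    (hab : IsMulCommutative (commutator (G ⧸ N)))
    (hnc : ¬ commutator (G ⧸ N) ≤ Subgroup.center (G ⧸ N)) :
    ∃ H : Subgroup G, H.index ≤ b ^ 2 ∧ DegLe (b - 1) H := by
  obtain ⟨K, L, hK, r, D⟩ := exists_frobData N hne hmin hab hnc
  haveI := hK
  haveI := Fact.mk D.prime
  exact frob_step h N K L D.le D.inf_eq D.exp D.commK D.commL D.dvd D.indexL D.not_dvd D.coprime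
    D.lt D.ne_top D.min D.free

theorem sq_mul_factorial_le {b : ℕ} (hb : 5 ≤ b) :
    b ^ 2 * Nat.factorial (b / 2) ≤ Nat.factorial b := by
  obtain ⟨c, rfl⟩ : ∃ c, b = c + 3 := ⟨b - 3, by omega⟩
  have h1 : Nat.factorial ((c + 3) / 2) ≤ Nat.factorial c := Nat.factorial_le (by omega)
  calc (c + 3) ^ 2 * Nat.factorial ((c + 3) / 2) ≤ (c + 3) ^ 2 * Nat.factorial c :=
        Nat.mul_le_mul_left _ h1
    _ ≤ ((c + 3) * (c + 2) * (c + 1)) * Nat.factorial c := Nat.mul_le_mul_right _ (by nlinarith)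
    _ = Nat.factorial (c + 3) := by
        rw [Nat.factorial_succ, Nat.factorial_succ, Nat.factorial_succ]; ring

theorem exists_abelian : ∀ (b : ℕ) (G : Type u) [Group G] [Fintype G], DegLe b G →
    ∃ A : Subgroup G, (∀ x ∈ A, ∀ y ∈ A, x * y = y * x) ∧ A.index ≤ Nat.factorial b ^ 2 := by
  intro b
  induction b using Nat.strong_induction_on with
  | h b ih =>
  intro G _ _ h
  classical
  by_cases hab : commutator G = ⊥
  · refine ⟨⊤, fun x _ y _ => ?_, ?_⟩
    · exact commutatorElement_eq_one_iff_mul_comm.1 ((Subgroup.eq_bot_iff_forall _).1 hab _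
        (Subgroup.commutator_mem_commutator (Subgroup.mem_top x) (Subgroup.mem_top y)))
    · rw [Subgroup.index_top]; exact Nat.one_le_pow _ _ (Nat.factorial_pos b)
  have hb2 : 2 ≤ b := by
    obtain ⟨χ, hχ⟩ := SameDegree.exists_nonlinear hab
    obtain ⟨d, hd0, hd⟩ := exists_degree_pos χ.2
    have h1 := h _ d χ.2 hd
    have : d ≠ 1 := fun e => hχ (by rw [hd, e, Nat.cast_one])
    omega
  -- recursion
  have hrec : ∀ (H : Subgroup G) (c : ℕ), c < b → DegLe c H →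
      H.index * Nat.factorial c ^ 2 ≤ Nat.factorial b ^ 2 →
      ∃ A : Subgroup G, (∀ x ∈ A, ∀ y ∈ A, x * y = y * x) ∧ A.index ≤ Nat.factorial b ^ 2 := by
    intro H c hc hH hle
    haveI := Fintype.ofFinite H
    obtain ⟨A, hA, hAi⟩ := ih c hc H hH
    refine ⟨A.map H.subtype, ?_, ?_⟩
    · rintro _ ⟨x, hx, rfl⟩ _ ⟨y, hy, rfl⟩
      rw [← map_mul, ← map_mul, hA x hx y hy]
    · rw [Subgroup.index_map_subtype, mul_comm]
      exact le_trans (Nat.mul_le_mul_left _ hAi) hle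
  have hgood : (∃ H : Subgroup G, H.index ≤ b ^ 2 ∧ DegLe (b - 1) H) →
      ∃ A : Subgroup G, (∀ x ∈ A, ∀ y ∈ A, x * y = y * x) ∧ A.index ≤ Nat.factorial b ^ 2 := by
    rintro ⟨H, hH, hd⟩
    refine hrec H (b - 1) (by omega) hd ?_
    refine (Nat.mul_le_mul_right _ hH).trans ?_
    rw [← mul_pow, Nat.mul_factorial_pred (by omega)]
  -- a normal subgroup maximal with non-abelian quotient
  obtain ⟨N, -, hN⟩ := Finite.exists_le_maximal
    (p := fun N : Subgroup G => N.Normal ∧ ¬ commutator G ≤ N) (a := ⊥)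
    ⟨inferInstance, fun e => hab (le_bot_iff.1 e)⟩
  haveI := hN.prop.1
  have hmap : commutator (G ⧸ N) = (commutator G).map (QuotientGroup.mk' N) := by
    rw [commutator_def, commutator_def, Subgroup.map_commutator,
      Subgroup.map_top_of_surjective _ (QuotientGroup.mk'_surjective N)]
  have hne : commutator (G ⧸ N) ≠ ⊥ := fun e => hN.prop.2 (by
    rwa [hmap, Subgroup.map_eq_bot_iff, QuotientGroup.ker_mk'] at e)
  have hmin : ∀ M : Subgroup (G ⧸ N), M.Normal → M ≠ ⊥ → commutator (G ⧸ N) ≤ M := by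
    intro M hM hMne
    rw [hmap, Subgroup.map_le_iff_le_comap]
    by_contra hle
    have hNM : N ≤ M.comap (QuotientGroup.mk' N) := fun x hx => by
      rw [Subgroup.mem_comap, QuotientGroup.mk'_apply, (QuotientGroup.eq_one_iff x).2 hx]
      exact one_mem M
    have heq := le_antisymm (hN.2 ⟨hM.comap _, hle⟩ hNM) hNM
    refine hMne ((Subgroup.eq_bot_iff_forall M).2 fun q hq => ?_)
    obtain ⟨x, rfl⟩ := QuotientGroup.mk'_surjective N q
    exact (QuotientGroup.eq_one_iff x).2 (heq ▸ hq : x ∈ N)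
  by_cases hW : IsMulCommutative (commutator (G ⧸ N))
  · by_cases hc : commutator (G ⧸ N) ≤ Subgroup.center (G ⧸ N)
    · exact hgood (central_step h N hne hmin hc)
    · exact hgood (abelian_step h N hne hmin hW hc)
  rcases nonabelian_step h N hne hmin hW with h1 | ⟨hb5, H, hH, hd⟩
  · exact hgood h1
  refine hrec H (b / 2) (by omega) hd ((Nat.mul_le_mul_right _ hH).trans ?_)
  calc b ^ 4 * Nat.factorial (b / 2) ^ 2 = (b ^ 2 * Nat.factorial (b / 2)) ^ 2 := by ring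
    _ ≤ _ := Nat.pow_le_pow_left (sq_mul_factorial_le hb5) 2

end CfsgLib.IsaacsPassman
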